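import Groth.Agent.L03.SurfNum.Gram
import Groth.Agent.L03.Euler.Section
import Groth.Agent.L03.SurfAmple.Zero

/-!
The divisor of a section as a sum of curves; orthogonality to a class of positive square.
-/

set_option autoImplicit false
set_option backward.isDefEq.respectTransparency false
set_option linter.style.haveILetI false
universe u

open CategoryTheory CategoryTheory.Limits AlgebraicGeometry TopologicalSpace

noncomputable section

namespace Groth.L03.SurfNum

open Groth.L22.Inter Groth.L22.Nef Groth.L22.Big Groth.L03.Euler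

variable (k : Type u) [Field k] {X : Scheme.{u}} [X.Over (Spec (CommRingCat.of k))]
  [IsProper (X ↘ Spec (CommRingCat.of k))] [IsIntegral X] (hdim : topologicalKrullDim X ≤ (2 : ℕ))

include hdim

/-- Intersecting with the divisor of a section sums the degrees on its curves. -/
theorem exists_sum_curves {N : X.Modules} (hN : PicF.IsInvertible N) (s : Coh.structureModule X ⟶ N)
    (hη : genericPoint X ∈ CohB1.genLocus N s) :
    ∃ (T : Finset X) (m : X → ℕ),
      (∀ y ∈ T, topologicalKrullDim (closure ({y} : Set X)) = (1 : ℕ) ∧ y ∉ CohB1.genLocus N s) ∧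
      (∀ y, topologicalKrullDim (closure ({y} : Set X)) = (1 : ℕ) → y ∉ CohB1.genLocus N s → y ∈ T ∧ 0 < m y) ∧
      ∀ B : X.Modules, PicF.IsInvertible B →
        ii k N B = ∑ y ∈ T, (m y : ℚ) * altT k (fun _ : Fin 1 => B) (ClSub.quotMod (pt y)) := by
  haveI := Groth.L21.RR.isNoetherian_of_proper (X := X) k
  haveI : Mono s := Groth.L22.Nakai.mono_of_injective (Groth.L18.Ample.isInvertible_structureModule X) s
    (bijective_stalk_section s hη).1
  obtain ⟨hQ, hηQ⟩ := cokernel_facts k (Groth.L18.Ample.isInvertible_structureModule X) hN s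
  have hT := Groth.L16.CohSupport.isClosed_support (cokernel s) hQ.2
  have hd1 : topologicalKrullDim (CohB1.support (cokernel s)) ≤ (1 : ℕ) := dim_le_of_generic_notMem hT hηQ hdim
  haveI : Coh.IsQCoh N := (Groth.L18.Ample.isCoh_of_isInvertible hN).1
  have hsupp : ∀ x, x ∈ CohB1.support (cokernel s) ↔ x ∉ CohB1.genLocus N s := fun x => by
    rw [← not_iff_not, not_not, Groth.L21.RR.mem_genLocus_iff hN, notMem_support_cokernel_iff]
    rfl
  refine ⟨(finite_top hT hd1).toFinset, fun y => (Groth.L16.CohSupport.len y (cokernel s)).toNat,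
    fun y hy => ?_, fun y hy hys => ?_, fun B hB => ?_⟩
  · obtain ⟨hyT, hyd⟩ := (Set.Finite.mem_toFinset _).1 hy
    exact ⟨hyd, (hsupp y).1 hyT⟩
  · have hyT := (hsupp y).2 hys
    refine ⟨(Set.Finite.mem_toFinset _).2 ⟨hyT, hy⟩, ?_⟩
    have h1 : Groth.L16.CohSupport.len y (cokernel s) ≠ 0 := fun h0 =>
      (Groth.L16.CohSupport.len_eq_zero_iff _ _).1 h0 hyT
    have h2 : Groth.L16.CohSupport.len y (cokernel s) ≠ ⊤ :=
      Groth.L16.CohSupport.len_ne_top hQ (fun z hz hzy =>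
        Groth.L22.Inter.eq_of_specializes_top hT hd1 hy hz hzy)
    exact Nat.pos_of_ne_zero fun h0 => (ENat.toNat_eq_zero.1 h0).elim h1 h2
  · rw [ii_eq_coker k hdim hN hB s]
    exact altT_eq_sum k (fun _ => hB) hT hd1 (finite_top hT hd1).toFinset (fun y => Set.Finite.mem_toFinset _)
      (fun y => ClSub.quotMod (pt y)) (fun y _ => pt_facts y) hQ subset_rfl

/-- A class orthogonal to a class of positive square and of square zero is numerically trivial. -/
theorem eq_zero_of_orth_ii {M L H : X.Modules} (hM : PicF.IsInvertible M) (hL : PicF.IsInvertible L)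
    (hH : CohB1.IsAmple H) (hd2 : topologicalKrullDim X = (2 : ℕ)) (hMM : 0 < ii k M M) (hML : ii k M L = 0) :
    ii k L L ≤ 0 ∧ (ii k L L = 0 → ∀ A : X.Modules, PicF.IsInvertible A → ii k L A = 0) := by
  have hHH := ii_ample_pos k hdim hd2 hH
  refine ⟨(orth_sq_le k hdim hM hL hH hHH).2 hMM hML, fun hLL A hA => ?_⟩
  have zp : ∀ {P : X.Modules}, PicF.IsInvertible P → ∀ a : ℤ, ∃ Z : X.Modules, PicF.IsInvertible Z ∧
      ∀ C : X.Modules, PicF.IsInvertible C → ii k Z C = a * ii k P C := by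
    intro P hP a
    obtain ⟨P', hP', ⟨ι⟩⟩ := Groth.L08.Cube.exists_inverse hP
    rcases a.eq_nat_or_neg with ⟨n, rfl | rfl⟩
    · exact ⟨_, Groth.L18.Ample.isInvertible_tensorPow hP n, fun C hC => by rw [ii_pow k hdim hP hC]; push_cast; rfl⟩
    · refine ⟨_, Groth.L18.Ample.isInvertible_tensorPow hP' n, fun C hC => ?_⟩
      rw [ii_pow k hdim hP' hC, Gram.ii_inverse k hdim hP hP' hC ι]
      push_cast
      ring
  by_contra hc
  obtain ⟨p, hp⟩ : ∃ p : ℤ, ii k M M = (p : ℚ) := ⟨_, (intNum_eq_ii k hdim M M).symm⟩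
  obtain ⟨q, hq⟩ : ∃ q : ℤ, ii k A M = (q : ℚ) := ⟨_, (intNum_eq_ii k hdim A M).symm⟩
  obtain ⟨c, hc'⟩ : ∃ c : ℤ, ii k L A = (c : ℚ) := ⟨_, (intNum_eq_ii k hdim L A).symm⟩
  obtain ⟨P, hP, hPi⟩ := zp hA p
  obtain ⟨Q, hQ, hQi⟩ := zp hM (-q)
  have hR := Groth.L18.GenLoc.isInvertible_tensor hP hQ
  have hRM : ii k (CohB1.tensorMod P Q) M = 0 := by
    rw [ii_tensor k hdim hP hQ hM, hPi M hM, hQi M hM, hp, hq]; push_cast; ring
  have hRL : ii k (CohB1.tensorMod P Q) L = p * c := by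
    rw [ii_tensor k hdim hP hQ hL, hPi L hL, hQi L hL, hML, ii_comm k A L, hc', mul_zero, add_zero]
  obtain ⟨e, he⟩ : ∃ e : ℤ, ii k (CohB1.tensorMod P Q) (CohB1.tensorMod P Q) = (e : ℚ) :=
    ⟨_, (intNum_eq_ii k hdim _ _).symm⟩
  -- a large multiple of `L` added to the orthogonal part
  obtain ⟨Z, hZ, hZi⟩ := zp hL (p * c * (|e| + 1))
  have hW := Groth.L18.GenLoc.isInvertible_tensor hR hZ
  have hWM : ii k M (CohB1.tensorMod (CohB1.tensorMod P Q) Z) = 0 := by
    rw [ii_comm, ii_tensor k hdim hR hZ hM, hRM, hZi M hM, ii_comm k L M, hML]; ring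
  have hneg := (orth_sq_le k hdim hM hW hH hHH).2 hMM hWM
  rw [ii_tensor k hdim hR hZ hW, ii_tensor_right k hdim hR hR hZ, ii_tensor_right k hdim hZ hR hZ,
    ii_comm k (CohB1.tensorMod P Q) Z, hZi _ hR, hZi _ hZ, ii_comm k L (CohB1.tensorMod P Q), hRL,
    ii_comm k L Z, hZi L hL, hLL, he] at hneg
  push_cast at hneg
  have hp0 : (p : ℚ) ≠ 0 := by rw [← hp]; exact hMM.ne'
  have hc0 : (c : ℚ) ≠ 0 := by rw [← hc']; exact hc
  have h1 : 0 < ((p : ℚ) * c) ^ 2 := pow_two_pos_of_ne_zero (mul_ne_zero hp0 hc0)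
  obtain ⟨pc, hpc⟩ : ∃ pc : ℤ, pc = p * c := ⟨_, rfl⟩
  have hpc' : (p : ℚ) * c = (pc : ℚ) := by rw [hpc]; push_cast; ring
  have h2 : (1 : ℚ) ≤ ((p : ℚ) * c) ^ 2 := by
    rw [hpc'] at h1 ⊢
    have : 0 < pc ^ 2 := by exact_mod_cast h1
    exact_mod_cast (show 1 ≤ pc ^ 2 by omega)
  nlinarith [abs_nonneg (e : ℚ), neg_abs_le (e : ℚ),
    mul_le_mul_of_nonneg_left h2 (by positivity : (0 : ℚ) ≤ 2 * (|(e : ℚ)| + 1))]

end Groth.L03.SurfNum
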