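import Groth.Agent.L03.SurfNum.Basic
import Groth.Agent.L08.Cube.DivSection

/-!
# Gram matrices of curves on a surface, in terms of intersection numbers of modules
-/

set_option autoImplicit false
set_option backward.isDefEq.respectTransparency false
set_option linter.style.haveILetI false
set_option linter.unusedSectionVars false

universe u

open CategoryTheory CategoryTheory.Limits AlgebraicGeometry TopologicalSpace

noncomputable section

namespace Groth.L03.SurfNum.Gram

open Groth.L22.Inter Groth.L22.Nef Groth.L22.Big Groth.L03.Euler Groth.L03.SurfNum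

variable (k : Type u) [Field k] {X : Scheme.{u}} [X.Over (Spec (CommRingCat.of k))]
  [IsProper (X ↘ Spec (CommRingCat.of k))] [IsIntegral X] (hdim : topologicalKrullDim X ≤ (2 : ℕ))

include hdim

theorem ii_inverse {I N M : X.Modules} (hI : PicF.IsInvertible I) (hN : PicF.IsInvertible N)
    (hM : PicF.IsInvertible M) (e : CohB1.tensorMod I N ≅ Coh.structureModule X) : ii k N M = - ii k I M := by
  have h0 : ii k (CohB1.tensorMod I N) M = 0 := (ii_congr k e M).trans (altT_unit k _)
  rw [ii_tensor k hdim hI hN hM] at h0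
  linarith

omit hdim in
theorem deg_euler (L : X.Modules) (J : X.IdealSheafData) :
    ((Curv2.euler k X (CohB1.tensorMod (ClSub.quotMod J) L) - Curv2.euler k X (ClSub.quotMod J) : ℤ) : ℚ) =
      altT k (fun _ : Fin 1 => L) (ClSub.quotMod J) := (altT_one k L _).symm

omit hdim in
/-- The degree on a curve. -/
theorem deg_eq (J : X.IdealSheafData) (hJ : PicF.IsInvertible (ClSub.idealMod J)) {L : X.Modules}
    (hL : PicF.IsInvertible L) :
    ((Curv2.euler k X (CohB1.tensorMod (ClSub.quotMod J) L) - Curv2.euler k X (ClSub.quotMod J) : ℤ) : ℚ) =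
      - ii k (ClSub.idealMod J) L :=
  (deg_euler k L J).trans (altT_quotMod_eq k hL J hJ)

theorem curve_ample_neg {H : X.Modules} (hH : CohB1.IsAmple H) (J : X.IdealSheafData) [IsIntegral J.subscheme]
    (hd : topologicalKrullDim (J.support : Set X) = 1) (hJ : PicF.IsInvertible (ClSub.idealMod J)) :
    ii k (ClSub.idealMod J) H < 0 := by
  let g := J.subschemeι
  letI : J.subscheme.Over (Spec (CommRingCat.of k)) := ⟨g ≫ (X ↘ Spec (CommRingCat.of k))⟩
  haveI : IsProper (J.subscheme ↘ Spec (CommRingCat.of k)) :=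
    inferInstanceAs (IsProper (g ≫ (X ↘ Spec (CommRingCat.of k))))
  have hd' : topologicalKrullDim J.subscheme = (1 : ℕ) := by
    rw [← dim_closure_image g, ← dim_support J, hd, Nat.cast_one]
  have h1 := altT_push_eq k g rfl hd' (L := fun _ : Fin 1 => H) fun _ => hH.1
  rw [← eq_pt J] at h1
  have h2 := altT_ample_pos k (Groth.L18.Ample.isAmple_pullback_of_isAffineHom g hH) hd'
  rw [h1, altT_quotMod_eq k hH.1 J hJ] at h2
  linarith

/-- Two effective divisors meet nonnegatively along a curve not contained in the first. -/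
theorem inv_pair_nonneg (I J : X.IdealSheafData) (hI : PicF.IsInvertible (ClSub.idealMod I)) [IsIntegral J.subscheme]
    (hd : topologicalKrullDim (J.support : Set X) = 1) (hJ : PicF.IsInvertible (ClSub.idealMod J))
    (hne : ¬ (J.support : Set X) ⊆ (I.support : Set X)) :
    0 ≤ ii k (ClSub.idealMod I) (ClSub.idealMod J) := by
  obtain ⟨N, s, hN, ⟨e⟩, hloc⟩ :=
    Groth.L08.Cube.exists_section_of_effCartier I ((Groth.Agent.L19.IdealInvertible.isEffCartier_iff I).1 hI)
  set y := J.subschemeι (genericPoint J.subscheme)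
  have hy : topologicalKrullDim (closure ({y} : Set X)) = (1 : ℕ) :=
    (dim_support J).symm.trans (hd.trans Nat.cast_one.symm)
  have hys : y ∈ CohB1.genLocus N s := by
    show y ∈ (CohB1.genLocus N s : Set X)
    rw [hloc]
    intro hyI
    refine hne ?_
    rw [← Scheme.IdealSheafData.range_subschemeι, Groth.L22.Nef.range_eq_closure]
    exact closure_minimal (Set.singleton_subset_iff.2 hyI) I.support.isClosed
  have h2 := altT_pt_nonneg k hdim hN s hys hy
  rw [← eq_pt J, altT_quotMod_eq k hN J hJ, ii_comm, ii_inverse k hdim hI hN hJ e] at h2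
  linarith

/-- Distinct curves meet nonnegatively. -/
theorem curve_pair_nonneg (I J : X.IdealSheafData) [IsIntegral I.subscheme] [IsIntegral J.subscheme]
    (hId : topologicalKrullDim (I.support : Set X) = 1) (hJd : topologicalKrullDim (J.support : Set X) = 1)
    (hI : PicF.IsInvertible (ClSub.idealMod I)) (hJ : PicF.IsInvertible (ClSub.idealMod J)) (hne : I ≠ J) :
    0 ≤ ii k (ClSub.idealMod I) (ClSub.idealMod J) := by
  refine inv_pair_nonneg k hdim I J hI hJd hJ fun hsub => hne ?_
  set y := J.subschemeι (genericPoint J.subscheme)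
  set z := I.subschemeι (genericPoint I.subscheme)
  have hyI : y ∈ (I.support : Set X) := hsub (by
    rw [← Scheme.IdealSheafData.range_subschemeι]; exact Set.mem_range_self _)
  rw [← Scheme.IdealSheafData.range_subschemeι, Groth.L22.Nef.range_eq_closure] at hyI
  have hzy : z = y := eq_of_specializes_top isClosed_closure
    ((dim_support I).symm.trans (hId.trans Nat.cast_one.symm)).le
    ((dim_support J).symm.trans (hJd.trans Nat.cast_one.symm)) (subset_closure rfl)
    (specializes_iff_mem_closure.2 hyI)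
  rw [eq_pt I, eq_pt J]
  exact congrArg pt hzy

section Config

variable {r : ℕ} (C : Fin r → X.IdealSheafData) (hC : Function.Injective C)
  (hCi : ∀ i, IsIntegral (C i).subscheme) (hCd : ∀ i, topologicalKrullDim ((C i).support : Set X) = 1)
  (hCinv : ∀ i, PicF.IsInvertible (ClSub.idealMod (C i)))

omit hdim in
/-- The Gram matrix. -/
abbrev gr (i j : Fin r) : ℚ := ii k (ClSub.idealMod (C i)) (ClSub.idealMod (C j))

theorem intGram (a b : Fin r → ℤ) :
    ((∑ i, ∑ j, a i * b j * FGA.intNum k X 2 ![ClSub.idealMod (C i), ClSub.idealMod (C j)] (Coh.structureModule X) : ℤ) : ℚ) =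
      ∑ i, ∑ j, (a i : ℚ) * b j * gr k C i j := by
  push_cast
  simp only [intNum_eq_ii k hdim]

theorem split_ge (a : Fin r → ℚ) (hdisj : ∀ i j, i ≠ j → 0 ≤ gr k C i j) :
    ∃ p m : Fin r → ℚ, (∀ i, 0 ≤ p i) ∧ (∀ i, 0 ≤ m i) ∧ (∀ i, a i = p i - m i) ∧
      0 ≤ ∑ i, ∑ j, p i * m j * gr k C i j ∧ 0 ≤ ∑ i, ∑ j, m i * p j * gr k C i j := by
  refine ⟨fun i => max (a i) 0, fun i => max (-a i) 0, fun i => le_max_right _ _, fun i => le_max_right _ _,
    fun i => (max_zero_sub_max_neg_zero_eq_self _).symm, ?_, ?_⟩ <;>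
  refine Finset.sum_nonneg fun i _ => Finset.sum_nonneg fun j _ => ?_ <;>
  by_cases hij : i = j
  · subst hij
    rcases le_total (a i) 0 with h' | h'
    · simp [max_eq_right h']
    · simp [max_eq_right (neg_nonpos.2 h')]
  · exact mul_nonneg (mul_nonneg (le_max_right _ _) (le_max_right _ _)) (hdisj i j hij)
  · subst hij
    rcases le_total (a i) 0 with h' | h'
    · simp [max_eq_right h']
    · simp [max_eq_right (neg_nonpos.2 h')]
  · exact mul_nonneg (mul_nonneg (le_max_right _ _) (le_max_right _ _)) (hdisj i j hij)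

include hC hCi hCd hCinv in
theorem offdiag (i j : Fin r) (hij : i ≠ j) : 0 ≤ gr k C i j :=
  haveI := hCi i
  haveI := hCi j
  curve_pair_nonneg k hdim _ _ (hCd i) (hCd j) (hCinv i) (hCinv j) fun e => hij (hC e)

variable (hneg : ∀ a : Fin r → ℤ, a ≠ 0 →
      ∑ i, ∑ j, a i * a j * FGA.intNum k X 2 ![(ClSub.idealMod (C i)), (ClSub.idealMod (C j))] (Coh.structureModule X) < 0)
include hneg

theorem gram_neg (q : Fin r → ℚ) (hq : q ≠ 0) : ∑ i, ∑ j, q i * q j * gr k C i j < 0 := by
  obtain ⟨D, z, hD, hz⟩ := exists_int q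
  have hz0 : z ≠ 0 := fun h0 => hq (funext fun i => by
    have := hz i
    rw [h0, Pi.zero_apply, Int.cast_zero] at this
    exact (mul_eq_zero.1 this.symm).resolve_left (by positivity))
  have h1 := (Int.cast_lt_zero (R := ℚ)).2 (hneg z hz0)
  rw [intGram k hdim C] at h1
  have e : ∑ i, ∑ j, (z i : ℚ) * z j * gr k C i j = (D : ℚ) ^ 2 * ∑ i, ∑ j, q i * q j * gr k C i j := by
    simp only [hz, Finset.mul_sum]
    exact Finset.sum_congr rfl fun i _ => Finset.sum_congr rfl fun j _ => by ring
  rw [e] at h1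
  exact neg_of_mul_neg_right h1 (by positivity)

theorem gram_nonpos (q : Fin r → ℚ) : ∑ i, ∑ j, q i * q j * gr k C i j ≤ 0 := by
  by_cases hq : q = 0
  · simp [hq]
  · exact (gram_neg k hdim C hneg q hq).le

theorem eq_zero_of_gram_nonneg (q : Fin r → ℚ) (h : 0 ≤ ∑ i, ∑ j, q i * q j * gr k C i j) : q = 0 :=
  by_contra fun hq => absurd (gram_neg k hdim C hneg q hq) (not_lt.2 h)

end Config

end Groth.L03.SurfNum.Gram
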