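import Groth.Agent.S1700
import Groth.Agent.S2821
import Groth.Agent.L19.IdealInvertible
import Groth.Agent.L22.Big.SurfaceMain
import Groth.Agent.L22.Nef.Bridge
import Groth.Agent.L22.SchemeDim
import Groth.Agent.L22.Div.ComplAffine
import Groth.Agent.L08.Cube.SmoothStalk
import Groth.Agent.L21.RR.Twist
import Groth.Agent.L22.CurveDeg.ZeroDim

/-!
# Curves on regular surfaces
-/

set_option autoImplicit false
set_option backward.isDefEq.respectTransparency false
set_option linter.style.haveILetI false
set_option linter.unusedSectionVars false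

universe u

open CategoryTheory CategoryTheory.Limits AlgebraicGeometry TopologicalSpace

noncomputable section

namespace Groth.L03.SurfNum

open Groth.L22.Inter Groth.L22.Nef Groth.L22.Big Groth.L03.Euler

variable (k : Type u) [Field k] {X : Scheme.{u}} [X.Over (Spec (CommRingCat.of k))]
  [IsProper (X ↘ Spec (CommRingCat.of k))] [IsIntegral X]

include k in
theorem ringKrullDim_stalk_eq_one (hdim : topologicalKrullDim X = (2 : ℕ)) {y : X}
    (hy : topologicalKrullDim (closure ({y} : Set X)) = (1 : ℕ)) :
    ringKrullDim (X.presheaf.stalk y) = 1 := by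
  obtain ⟨a, b, ha, hb, hab⟩ := Groth.L22.SchemeDim.exists_localDim k X y
  obtain ⟨a', ha', htr⟩ := Groth.L22.SchemeDim.exists_dim_closure_eq_trdeg k X y
  obtain ⟨m, hm, -, hopen⟩ := Groth.L22.SchemeDim.exists_dim_eq_trdeg k X
  have hm2 : 2 = m := by exact_mod_cast hdim.symm.trans hm
  have hl : FlatMor.localDim X y = ((2 : ℕ) : WithBot ℕ∞) := by
    refine le_antisymm ?_ (le_iInf fun U => ?_)
    · refine iInf_le_of_le ⟨⊤, trivial⟩ ?_
      rw [hm2, ← hopen ⊤ ⟨y, trivial⟩]
      exact le_rfl
    · rw [hm2, ← hopen U.1 ⟨y, U.2⟩]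
      exact le_rfl
  rw [hy] at ha'
  have ha1 : a' = 1 := by exact_mod_cast ha'.symm
  have haa : a = a' := by exact_mod_cast ha.symm.trans htr
  rw [hl] at hab
  have : 2 = a + b := by exact_mod_cast hab
  rw [hb, show b = 1 by omega, Nat.cast_one]

include k in
/-- An integral curve on a regular surface is an effective Cartier divisor. -/
theorem isInvertible_idealMod (hdim : topologicalKrullDim X = (2 : ℕ))
    (hreg : ∀ x : X, IsRegularLocalRing (X.presheaf.stalk x)) (I : X.IdealSheafData) [IsIntegral I.subscheme]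
    (hI : topologicalKrullDim (I.support : Set X) = 1) : PicF.IsInvertible (ClSub.idealMod I) := by
  haveI := Groth.L21.RR.isNoetherian_of_proper (X := X) k
  refine (Groth.Agent.L19.IdealInvertible.isEffCartier_iff I).2
    (Groth.Agent.S1700.result X I (fun z hz z' hz' => ?_) (fun z hz => ?_) (fun x _ => ?_))
  · haveI : IsLocallyNoetherian I.subscheme := LocallyOfFiniteType.isLocallyNoetherian I.subschemeι
    exact Groth.L22.Div.maximal_of_assoc hz hz'
  · have hzη : z = genericPoint I.subscheme := (hz _ (genericPoint_specializes z)).symm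
    refine ringKrullDim_stalk_eq_one k hdim ?_
    rw [hzη, ← dim_support I, hI, Nat.cast_one]
  · haveI := hreg x
    exact Groth.Agent.S2821.result (X.presheaf.stalk x)

variable (hdim : topologicalKrullDim X ≤ (2 : ℕ))
include hdim

omit hdim in
/-- The degree on a curve as an intersection number. -/
theorem altT_quotMod_eq {L : X.Modules} (hL : PicF.IsInvertible L) (I : X.IdealSheafData)
    (hI : PicF.IsInvertible (ClSub.idealMod I)) :
    altT k (fun _ : Fin 1 => L) (ClSub.quotMod I) = - ii k (ClSub.idealMod I) L := by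
  haveI := Groth.L21.RR.isNoetherian_of_proper (X := X) k
  have hOc := Groth.L16.CohClosedPush.isCoh_structure (X := X)
  have h := altT_map k (L := fun _ : Fin 1 => L) (fun _ => hL) (Groth.L18.Ample.isCoh_of_isInvertible hI) hOc
    (ClSub.idealModι I)
  haveI : Mono (ClSub.idealModι I) := inferInstanceAs (Mono (kernel.ι _))
  have hk0 : altT k (fun _ : Fin 1 => L) (kernel (ClSub.idealModι I)) = 0 := by
    rw [altT, twEuler_of_isZero k (fun _ => hL) (isZero_kernel_of_mono _), map_zero]
  have hS := Groth.L21.RR.shortExact_idealSeq I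
  haveI : Epi (ClSub.toSubscheme I) := hS.epi_g
  have e : cokernel (ClSub.idealModι I) ≅ ClSub.quotMod I :=
    IsColimit.coconePointUniqueUpToIso (cokernelIsCokernel _) hS.gIsCokernel
  rw [hk0, altT_iso k _ e] at h
  rw [ii_eq_sub]
  linarith

/-- An effective module has nonnegative degree on the curves off its divisor. -/
theorem altT_pt_nonneg {N : X.Modules} (hN : PicF.IsInvertible N) (s : Coh.structureModule X ⟶ N)
    {y : X} (hys : y ∈ CohB1.genLocus N s) (hy : topologicalKrullDim (closure ({y} : Set X)) = (1 : ℕ)) :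
    0 ≤ altT k (fun _ : Fin 1 => N) (ClSub.quotMod (pt y)) := by
  haveI := Groth.L21.RR.isNoetherian_of_proper (X := X) k
  haveI := isIntegral_pt y
  let g := (pt y).subschemeι
  letI : (pt y).subscheme.Over (Spec (CommRingCat.of k)) := ⟨g ≫ (X ↘ Spec (CommRingCat.of k))⟩
  haveI : IsProper ((pt y).subscheme ↘ Spec (CommRingCat.of k)) :=
    inferInstanceAs (IsProper (g ≫ (X ↘ Spec (CommRingCat.of k))))
  have hd : topologicalKrullDim (pt y).subscheme = (1 : ℕ) := by
    rw [← dim_closure_image g, genericPoint_pt, hy]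
  have h1 := altT_push_eq k g rfl hd (L := fun _ : Fin 1 => N) fun _ => hN
  rw [genericPoint_pt] at h1
  rw [← h1]
  let N' := (Scheme.Modules.pullback g).obj N
  have hN' : PicF.IsInvertible N' := Groth.L18.Ample.isInvertible_pullback g hN
  let s' : Coh.structureModule (pt y).subscheme ⟶ N' :=
    (Groth.L29.LocFree.pullbackUnitIso g).inv ≫ (Scheme.Modules.pullback g).map s
  haveI := Groth.L21.RR.isNoetherian_of_proper (X := (pt y).subscheme) k
  have hmem : genericPoint (pt y).subscheme ∈ CohB1.genLocus N' s' := by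
    show _ ∈ CohB1.genLocus _ ((Groth.L29.LocFree.pullbackUnitIso g).symm.hom ≫ (Scheme.Modules.pullback g).map s)
    rw [Groth.L18.Ample.genLocus_iso_pullback (u := g) hN s (Groth.L29.LocFree.pullbackUnitIso g).symm]
    show g (genericPoint (pt y).subscheme) ∈ CohB1.genLocus N s
    rw [genericPoint_pt]
    exact hys
  haveI : Mono s' := Groth.L22.Nakai.mono_of_injective (Groth.L18.Ample.isInvertible_structureModule _) s'
    (bijective_stalk_section s' hmem).1
  obtain ⟨hD, hη⟩ := cokernel_facts k (Groth.L18.Ample.isInvertible_structureModule _) hN' s'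
  have hd0 : topologicalKrullDim (CohB1.support (cokernel s')) ≤ (0 : ℕ) :=
    dim_le_of_generic_notMem (Groth.L16.CohSupport.isClosed_support _ hD.2) hη hd.le
  have hmap := altT_map k (L := fun i : Fin 0 => i.elim0) (fun i => i.elim0)
    (Groth.L16.CohClosedPush.isCoh_structure (X := (pt y).subscheme))
    (Groth.L18.Ample.isCoh_of_isInvertible hN') s'
  have hk0 : altT k (fun i : Fin 0 => i.elim0) (kernel s') = 0 := by
    rw [altT, twEuler_of_isZero k (fun i => i.elim0) (isZero_kernel_of_mono _), map_zero]
  rw [hk0] at hmap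
  have h0 : (fun _ : Fin 1 => N') = Fin.cons N' (fun i : Fin 0 => i.elim0) := funext fun i => by
    fin_cases i; rfl
  show 0 ≤ altT k (fun _ : Fin 1 => N') (Coh.structureModule (pt y).subscheme)
  rw [h0, altT_cons, altT_iso k _ (Groth.L00.Tensor.tensorUnitLeft N')]
  suffices 0 ≤ altT k (fun i : Fin 0 => i.elim0) (cokernel s') by linarith
  rw [altT_zero_eq, Groth.L21.RR.euler_eq_h0_of_suppClosed k (Groth.L22.CurveDeg.suppClosed_of_dim hD (by simpa using hd0))]
  exact_mod_cast Nat.zero_le _

end Groth.L03.SurfNum
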