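import Groth.Agent.L03.SurfNum.Gram
import Groth.Agent.L03.SurfNum.Curves
import Groth.Agent.L08.Cube.SmoothStalk
import Groth.Prelude.Def_Omega2

/-!
# Degrees along a curve embedded in a regular surface
-/

set_option autoImplicit false
set_option backward.isDefEq.respectTransparency false
set_option linter.style.haveILetI false
set_option linter.unusedSectionVars false

universe u

open CategoryTheory CategoryTheory.Limits AlgebraicGeometry TopologicalSpace

noncomputable section

namespace Groth.L03.SurfNum.CurveDegree

open Groth.L22.Inter Groth.L22.Nef Groth.L22.Big Groth.L03.Euler Groth.L03.SurfNum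
open Groth.L00.Tensor (tensorUnitLeft)

variable (k : Type u) [Field k] {S : Scheme.{u}} [S.Over (Spec (CommRingCat.of k))]
  [IsProper (S ↘ Spec (CommRingCat.of k))] [IsIntegral S] {C : Scheme.{u}} (i : C ⟶ S) [IsClosedImmersion i]
  [IsIntegral C]

include k in
/-- The ideal of an integral curve on a regular surface. -/
theorem invertible_ker (hdim : topologicalKrullDim S = (2 : ℕ))
    (hreg : ∀ x : S, IsRegularLocalRing (S.presheaf.stalk x)) (hC : topologicalKrullDim C = (1 : ℕ)) :
    PicF.IsInvertible (ClSub.idealMod i.ker) ∧ i.ker = pt (i (genericPoint C)) := by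
  haveI : Nonempty i.ker.subscheme := ⟨i.toImage (genericPoint C)⟩
  haveI : IsIntegral i.ker.subscheme :=
    isIntegral_of_isOpenImmersion (inv i.toImage)
  have hr : Set.range i.ker.subschemeι = Set.range i := by
    rw [i.ker.range_subschemeι]
    exact (Scheme.Hom.support_ker i).trans (i.isClosedEmbedding.isClosed_range.closure_eq)
  have hsupp : (i.ker.support : Set S) = closure {i (genericPoint C)} := by
    rw [← i.ker.range_subschemeι, hr, range_eq_closure]
  have hdim1 : topologicalKrullDim (i.ker.support : Set S) = 1 := by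
    rw [hsupp, dim_closure_image i, hC, Nat.cast_one]
  refine ⟨Groth.L03.SurfNum.isInvertible_idealMod k hdim hreg i.ker hdim1, ?_⟩
  rw [eq_pt i.ker]
  congr 1
  have h1 : closure ({i.ker.subschemeι (genericPoint i.ker.subscheme)} : Set S) = closure {i (genericPoint C)} := by
    rw [← range_eq_closure, hr, range_eq_closure]
  exact IsGenericPoint.eq (S := closure {i (genericPoint C)}) h1 rfl

/-- The degree of the restriction is minus the intersection with the ideal. -/
theorem deg_pullback (hdim : topologicalKrullDim S = (2 : ℕ))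
    (hreg : ∀ x : S, IsRegularLocalRing (S.presheaf.stalk x)) (hC : topologicalKrullDim C = (1 : ℕ))
    {L : S.Modules} (hL : PicF.IsInvertible L) :
    letI : C.Over (Spec (CommRingCat.of k)) := ⟨i ≫ (S ↘ (Spec (CommRingCat.of k)))⟩
    ((Curv2.deg k C ((Scheme.Modules.pullback i).obj L) 1 : ℤ) : ℚ) = - ii k (ClSub.idealMod i.ker) L := by
  letI : C.Over (Spec (CommRingCat.of k)) := ⟨i ≫ (S ↘ (Spec (CommRingCat.of k)))⟩
  obtain ⟨hinv, hpt⟩ := invertible_ker k i hdim hreg hC
  haveI : IsProper (C ↘ Spec (CommRingCat.of k)) :=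
    inferInstanceAs (IsProper (i ≫ (S ↘ Spec (CommRingCat.of k))))
  have h1 := altT_push_eq k i rfl hC (L := fun _ : Fin 1 => L) fun _ => hL
  rw [← hpt, altT_quotMod_eq k hL i.ker hinv, altT_one, euler_iso (tensorUnitLeft _)] at h1
  rw [← h1]
  simp [Curv2.deg]

end Groth.L03.SurfNum.CurveDegree
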