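import Groth.Agent.L03.SurfNum.Decomp
import Groth.Agent.L03.SurfAmple.Curve
import Groth.Agent.L03.SurfAmple.Growth
import Groth.Agent.L03.SurfAmple.Product
import Groth.Agent.L03.SurfAmple.Config
import Groth.Agent.L03.SurfAmple.Graph
import Mathlib.RingTheory.OrderOfVanishing.Basic

/-!
Tools for the negative definiteness of contracted configurations of curves.
-/

set_option autoImplicit false
set_option backward.isDefEq.respectTransparency false
set_option linter.style.haveILetI false
universe u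

open CategoryTheory CategoryTheory.Limits AlgebraicGeometry TopologicalSpace Opposite

noncomputable section

namespace Groth.L03.SurfNum

open Groth.L22.Inter Groth.L22.Nef Groth.L22.Big Groth.L03.Euler
open Groth.L18.Frame (rs rs_self IsFrame)
open Groth.L18.GenLoc (secOf)

/-- A matrix with nonnegative connected off-diagonal entries and a positive vector with nonpositive,
nonzero image is negative definite. -/
theorem negDef_of_rows {ι K : Type*} [Fintype ι] [Field K] [LinearOrder K] [IsStrictOrderedRing K]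
    (G : ι → ι → K) (hsymm : ∀ i j, G i j = G j i) (hoff : ∀ i j, i ≠ j → 0 ≤ G i j)
    (hconn : Groth.L03.SurfAmple.Graph.Conn G Finset.univ) (m : ι → K) (hm : ∀ i, 0 < m i)
    (hrow : ∀ i, ∑ j, G i j * m j ≤ 0) (hne : ∃ i, ∑ j, G i j * m j < 0) (a : ι → K) (ha : a ≠ 0) :
    ∑ i, ∑ j, a i * a j * G i j < 0 := by
  classical
  set u : ι → K := fun i => a i / m i
  have hu : ∀ i, a i = m i * u i := fun i => (mul_div_cancel₀ _ (hm i).ne').symm
  set r : ι → K := fun i => ∑ j, G i j * m j
  set P : ι → ι → K := fun i j => G i j * m i * m j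
  have hP : ∀ i j, 0 ≤ P i j * (u i - u j) ^ 2 := fun i j => by
    by_cases hij : i = j
    · subst hij; simp
    · exact mul_nonneg (mul_nonneg (mul_nonneg (hoff i j hij) (hm i).le) (hm j).le) (sq_nonneg _)
  have e1 : ∀ i, ∑ j, P i j * u i ^ 2 = r i * m i * u i ^ 2 := fun i => by
    rw [Finset.sum_mul, Finset.sum_mul]
    exact Finset.sum_congr rfl fun j _ => by ring
  have e2 : ∑ i, ∑ j, P i j * u j ^ 2 = ∑ i, r i * m i * u i ^ 2 := by
    rw [Finset.sum_comm]
    refine Finset.sum_congr rfl fun i _ => ?_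
    rw [← e1 i]
    exact Finset.sum_congr rfl fun j _ => by simp only [P, hsymm j i]; ring
  have e3 : 2 * (∑ i, ∑ j, a i * a j * G i j) =
      2 * (∑ i, r i * m i * u i ^ 2) - ∑ i, ∑ j, P i j * (u i - u j) ^ 2 := by
    have : ∀ i j, P i j * (u i - u j) ^ 2 = P i j * u i ^ 2 + P i j * u j ^ 2 - 2 * (a i * a j * G i j) :=
      fun i j => by rw [hu i, hu j]; ring
    simp only [this, Finset.sum_sub_distrib, Finset.sum_add_distrib, e1, e2, ← Finset.mul_sum]
    ring
  by_contra hlt
  rw [not_lt] at hlt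
  have h1 : ∑ i, r i * m i * u i ^ 2 ≤ 0 :=
    Finset.sum_nonpos fun i _ => mul_nonpos_of_nonpos_of_nonneg
      (mul_nonpos_of_nonpos_of_nonneg (hrow i) (hm i).le) (sq_nonneg _)
  have h2 : 0 ≤ ∑ i, ∑ j, P i j * (u i - u j) ^ 2 := Finset.sum_nonneg fun i _ => Finset.sum_nonneg fun j _ => hP i j
  have h1' : ∑ i, r i * m i * u i ^ 2 = 0 := by linarith
  have h2' : ∑ i, ∑ j, P i j * (u i - u j) ^ 2 = 0 := by linarith
  have hedge : ∀ i j, 0 < G i j → u i = u j := fun i j hij => by
    have h3 := (Finset.sum_eq_zero_iff_of_nonneg fun i _ => Finset.sum_nonneg fun j _ => hP i j).1 h2' i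
      (Finset.mem_univ i)
    have h4 := (Finset.sum_eq_zero_iff_of_nonneg fun j _ => hP i j).1 h3 j (Finset.mem_univ j)
    exact sub_eq_zero.1 (pow_eq_zero_iff two_ne_zero |>.1
      ((mul_eq_zero.1 h4).resolve_left (mul_pos (mul_pos hij (hm i)) (hm j)).ne'))
  obtain ⟨i₀, hi₀⟩ := hne
  have hu₀ : u i₀ = 0 := by
    have h5 := (Finset.sum_eq_zero_iff_of_nonpos fun i _ => mul_nonpos_of_nonpos_of_nonneg
      (mul_nonpos_of_nonpos_of_nonneg (hrow i) (hm i).le) (sq_nonneg (u i))).1 h1' i₀ (Finset.mem_univ _)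
    exact pow_eq_zero_iff two_ne_zero |>.1
      ((mul_eq_zero.1 h5).resolve_left (mul_neg_of_neg_of_pos hi₀ (hm i₀)).ne)
  refine ha (funext fun i => ?_)
  by_contra hi
  obtain ⟨l, -, hl, j, hj, hlj⟩ := hconn (Finset.univ.filter fun i => u i = 0) (Finset.subset_univ _)
    ⟨i₀, by simp [hu₀]⟩ (fun e => hi (by
      have h6 := Finset.mem_univ i
      rw [← e, Finset.mem_filter] at h6
      rw [hu i, h6.2, mul_zero]; rfl))
  exact hl (Finset.mem_filter.2 ⟨Finset.mem_univ l, (hedge l j hlj).trans (Finset.mem_filter.1 hj).2⟩)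

variable (k : Type u) [Field k] {X : Scheme.{u}} [X.Over (Spec (CommRingCat.of k))]

/-- The length of the cokernel of a section is the order of its coefficient. -/
theorem len_cokernel_eq_ord {N : X.Modules} (s : Coh.structureModule X ⟶ N) {W : X.Opens} {e : Γ(N, W)}
    (he : IsFrame N W e) {a : Γ(X, W)} (ha : a • e = rs N le_top (secOf s)) {x : X} (hx : x ∈ W) :
    Groth.L16.CohSupport.len x (cokernel s) = Ring.ord (X.presheaf.stalk x) (X.presheaf.germ W x hx a) := by
  obtain ⟨g, hg, hgs⟩ := stalk_section s x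
  have hb := Groth.L21.RR.bijective_germ_frame he hx
  let R := X.presheaf.stalk x
  let ex : (Groth.L00.Stk.F X x).obj N := N.presheaf.germ W x hx e
  have hsec : (show (Groth.L00.Stk.F X x).obj N from N.presheaf.germ ⊤ x trivial (secOf s)) =
      X.presheaf.germ W x hx a • ex := by
    rw [← Groth.L20.ModStalk.germ_rs N (le_top : W ≤ ⊤) hx (secOf s), ← ha, Groth.L20.ModStalk.germ_smul]
  let π := ((Groth.L00.Stk.F X x).map (cokernel.π s)).hom
  let ψ := π ∘ₗ LinearMap.toSpanSingleton R ((Groth.L00.Stk.F X x).obj N) ex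
  have hπ : Function.Surjective π := (ModuleCat.epi_iff_surjective _).1 inferInstance
  have hψ : Function.Surjective ψ := hπ.comp hb.2
  have hS : (ShortComplex.mk s (cokernel.π s) (cokernel.condition _)).Exact :=
    ShortComplex.exact_cokernel _
  have hS' := hS.map (Groth.L00.Stk.F X x)
  have hker : LinearMap.ker ψ = Ideal.span {X.presheaf.germ W x hx a} := by
    ext c
    have hφ : ∀ r : R, ((Groth.L00.Stk.F X x).map s).hom (g r) = (r * X.presheaf.germ W x hx a) • ex := fun r => by
      rw [mul_smul, ← hsec]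
      exact LinearMap.congr_fun hgs r
    constructor
    · intro hc
      obtain ⟨w, hw⟩ := (ShortComplex.moduleCat_exact_iff _).1 hS' (c • ex) hc
      obtain ⟨r, rfl⟩ := hg.2 w
      exact Ideal.mem_span_singleton'.2 ⟨r, hb.1 ((hφ r).symm.trans hw)⟩
    · intro hc
      obtain ⟨r, rfl⟩ := Ideal.mem_span_singleton'.1 hc
      show π ((r * X.presheaf.germ W x hx a) • ex) = 0
      rw [← hφ]
      exact (ShortComplex.moduleCat_exact_iff _).1 hS' |> fun _ => by
        show ((Groth.L00.Stk.F X x).map (cokernel.π s)) (((Groth.L00.Stk.F X x).map s) (g r)) = 0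
        rw [← ModuleCat.comp_apply, ← Functor.map_comp, cokernel.condition, Functor.map_zero]
        rfl
  show Module.length R ((Groth.L00.Stk.F X x).obj (cokernel s)) = Module.length R (R ⧸ Ideal.span _)
  rw [← hker]
  exact (LinearMap.quotKerEquivOfSurjective ψ hψ).length_eq.symm

variable [IsProper (X ↘ Spec (CommRingCat.of k))] [IsIntegral X] (hdim : topologicalKrullDim X ≤ (2 : ℕ))

include hdim

/-- The intersection with the divisor of a section, summed over any large set of curves. -/
theorem ii_eq_sum_len {N : X.Modules} (hN : PicF.IsInvertible N) (s : Coh.structureModule X ⟶ N)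
    (hη : genericPoint X ∈ CohB1.genLocus N s) :
    ∃ T : Finset X, (∀ y ∈ T, topologicalKrullDim (closure ({y} : Set X)) = (1 : ℕ)) ∧
      ∀ T' : Finset X, T ⊆ T' → (∀ y ∈ T', topologicalKrullDim (closure ({y} : Set X)) = (1 : ℕ)) →
        ∀ B : X.Modules, PicF.IsInvertible B →
          ii k N B = ∑ y ∈ T', ((Groth.L16.CohSupport.len y (cokernel s)).toNat : ℚ) *
            altT k (fun _ : Fin 1 => B) (ClSub.quotMod (pt y)) := by
  haveI := Groth.L21.RR.isNoetherian_of_proper (X := X) k
  haveI : Mono s := Groth.L22.Nakai.mono_of_injective (Groth.L18.Ample.isInvertible_structureModule X) s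
    (bijective_stalk_section s hη).1
  obtain ⟨hQ, hηQ⟩ := cokernel_facts k (Groth.L18.Ample.isInvertible_structureModule X) hN s
  have hT := Groth.L16.CohSupport.isClosed_support (cokernel s) hQ.2
  have hd1 : topologicalKrullDim (CohB1.support (cokernel s)) ≤ (1 : ℕ) := dim_le_of_generic_notMem hT hηQ hdim
  refine ⟨(finite_top hT hd1).toFinset, fun y hy => ((Set.Finite.mem_toFinset _).1 hy).2, fun T' hTT hT' B hB => ?_⟩
  rw [ii_eq_coker k hdim hN hB s,
    altT_eq_sum k (fun _ => hB) hT hd1 (finite_top hT hd1).toFinset (fun y => Set.Finite.mem_toFinset _)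
      (fun y => ClSub.quotMod (pt y)) (fun y _ => pt_facts y) hQ subset_rfl]
  refine Finset.sum_subset hTT fun y hy hyT => ?_
  have h0 : y ∉ CohB1.support (cokernel s) := fun h => hyT ((Set.Finite.mem_toFinset _).2 ⟨h, hT' y hy⟩)
  rw [(Groth.L16.CohSupport.len_eq_zero_iff _ _).2 h0, ENat.toNat_zero, Nat.cast_zero, zero_mul]

/-- A curve missing a divisor has degree zero against it. -/
theorem ii_eq_zero_of_disjoint {I : X.IdealSheafData} (hI : PicF.IsInvertible (ClSub.idealMod I)) {y : X}
    (hy : topologicalKrullDim (closure ({y} : Set X)) = (1 : ℕ)) (hJ : PicF.IsInvertible (ClSub.idealMod (pt y)))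
    (h : ∀ z ∈ closure ({y} : Set X), z ∉ (I.support : Set X)) :
    ii k (ClSub.idealMod I) (ClSub.idealMod (pt y)) = 0 := by
  haveI := Groth.L21.RR.isNoetherian_of_proper (X := X) k
  haveI := isIntegral_pt y
  obtain ⟨N, s, hN, ⟨e⟩, hloc⟩ :=
    Groth.L08.Cube.exists_section_of_effCartier I ((Groth.Agent.L19.IdealInvertible.isEffCartier_iff I).1 hI)
  let g := (pt y).subschemeι
  letI : (pt y).subscheme.Over (Spec (CommRingCat.of k)) := ⟨g ≫ (X ↘ Spec (CommRingCat.of k))⟩
  haveI : IsProper ((pt y).subscheme ↘ Spec (CommRingCat.of k)) :=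
    inferInstanceAs (IsProper (g ≫ (X ↘ Spec (CommRingCat.of k))))
  have hd : topologicalKrullDim (pt y).subscheme = (1 : ℕ) := by
    rw [← dim_closure_image g, genericPoint_pt, hy]
  have htop : CohB1.genLocus _ ((Groth.L29.LocFree.pullbackUnitIso g).symm.hom ≫
      (Scheme.Modules.pullback g).map s) = ⊤ := by
    rw [Groth.L18.Ample.genLocus_iso_pullback (u := g) hN s (Groth.L29.LocFree.pullbackUnitIso g).symm]
    refine top_le_iff.1 fun w _ => ?_
    show g w ∈ (CohB1.genLocus N s : Set X)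
    rw [hloc]
    exact h _ ((range_pt y).le ⟨w, rfl⟩)
  obtain ⟨θ⟩ := Groth.L03.SurfAmple.nonempty_iso_of_genLocus_top _ htop
  have h1 := altT_push_eq k g rfl hd (L := fun _ : Fin 1 => N) fun _ => hN
  rw [genericPoint_pt] at h1
  have h2 : altT k (fun _ : Fin 1 => N) (ClSub.quotMod (pt y)) = 0 := h1 ▸ altT_trivial θ _
  rw [altT_quotMod_eq k hN (pt y) hJ, ii_comm, Gram.ii_inverse k hdim hI hN hJ e] at h2
  linarith

omit hdim in
/-- A curve meeting a divisor without lying in it has positive degree against it. -/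
theorem ii_pos_of_meet (hd2 : topologicalKrullDim X = (2 : ℕ)) {I : X.IdealSheafData}
    (hI : PicF.IsInvertible (ClSub.idealMod I)) {y : X}
    (hy : topologicalKrullDim (closure ({y} : Set X)) = (1 : ℕ)) (hJ : PicF.IsInvertible (ClSub.idealMod (pt y)))
    (hyI : y ∉ (I.support : Set X)) {z : X} (hz : z ∈ closure ({y} : Set X)) (hzI : z ∈ (I.support : Set X)) :
    0 < ii k (ClSub.idealMod I) (ClSub.idealMod (pt y)) := by
  obtain ⟨N, s, hN, ⟨e⟩, hloc⟩ :=
    Groth.L08.Cube.exists_section_of_effCartier I ((Groth.Agent.L19.IdealInvertible.isEffCartier_iff I).1 hI)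
  have hmem : ∀ w, w ∈ CohB1.genLocus N s ↔ w ∉ (I.support : Set X) := fun w => Set.ext_iff.1 hloc w
  have h2 := Groth.L03.SurfAmple.altT_pt_pos k hd2 hN s hy ((hmem y).2 hyI) hz (fun h => (hmem z).1 h hzI)
  rw [altT_quotMod_eq k hN (pt y) hJ, ii_comm, Gram.ii_inverse k hd2.le hI hN hJ e] at h2
  linarith

end Groth.L03.SurfNum
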