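import Groth.Agent.L03.SurfNum.Curves
import Groth.Prelude.Def_NumR
import Mathlib.LinearAlgebra.Basis.VectorSpace
import Mathlib.LinearAlgebra.Pi
import Mathlib.Topology.Order.DenselyOrdered

/-!
# The real intersection form of a surface: linear algebra, rational points, effective classes
-/

set_option autoImplicit false
set_option backward.isDefEq.respectTransparency false
set_option linter.style.haveILetI false
set_option linter.unusedSectionVars false

universe v u

open CategoryTheory CategoryTheory.Limits AlgebraicGeometry TopologicalSpace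
open NumR (N1R clR curveCl toN1R toN1)

noncomputable section

namespace Groth.L03.SurfNum

open Groth.L22.Inter Groth.L22.Nef Groth.L22.Big Groth.L03.Euler

section LinearAlgebra

/-- A rational linear system with only the zero rational solution has only the zero real solution. -/
theorem real_of_rat {ι κ : Type*} [Fintype ι] [Fintype κ] (M : ι → κ → ℚ)
    (h : ∀ q : ι → ℚ, (∀ j, ∑ i, q i * M i j = 0) → q = 0) (c : ι → ℝ)
    (hc : ∀ j, ∑ i, c i * (M i j : ℝ) = 0) : c = 0 := by
  classical
  let f : (ι → ℚ) →ₗ[ℚ] (κ → ℚ) :=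
    { toFun := fun q j => ∑ i, q i * M i j
      map_add' := fun p q => funext fun j => by simp [add_mul, Finset.sum_add_distrib]
      map_smul' := fun a q => funext fun j => by simp [Finset.mul_sum, mul_assoc] }
  obtain ⟨g, hg⟩ := f.exists_leftInverse_of_injective (LinearMap.ker_eq_bot'.2 fun q hq =>
    h q fun j => congrFun hq j)
  funext l
  have key : ∀ i, (if i = l then (1 : ℚ) else 0) = ∑ j, M i j * g (Pi.single j 1) l := fun i => by
    have h1 := congrFun (LinearMap.congr_fun hg (Pi.single i (1 : ℚ))) l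
    rw [LinearMap.comp_apply, LinearMap.id_apply] at h1
    have h2 : f (Pi.single i (1 : ℚ)) = ∑ j, M i j • Pi.single (M := fun _ : κ => ℚ) j 1 := by
      funext j
      simp [f, Pi.single_apply, Finset.sum_apply]
    rw [h2, map_sum, Finset.sum_apply] at h1
    simp only [map_smul, Pi.smul_apply, smul_eq_mul] at h1
    rw [h1, Pi.single_apply]
    simp [eq_comm]
  have h3 : ∑ i, c i * ((if i = l then (1 : ℚ) else 0 : ℚ) : ℝ) = c l := by
    simp [apply_ite (Rat.cast : ℚ → ℝ)]
  rw [← h3, Pi.zero_apply]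
  simp only [key, Rat.cast_sum, Rat.cast_mul, Finset.mul_sum, ← mul_assoc]
  rw [Finset.sum_comm]
  refine Finset.sum_eq_zero fun j _ => ?_
  rw [← Finset.sum_mul, hc j, zero_mul]

/-- Clearing denominators. -/
theorem exists_int {ι : Type*} [Fintype ι] (q : ι → ℚ) :
    ∃ (D : ℕ) (z : ι → ℤ), 0 < D ∧ ∀ i, (z i : ℚ) = D * q i := by
  classical
  refine ⟨∏ i, (q i).den, fun i => (q i).num * ∏ j ∈ Finset.univ.erase i, ((q j).den : ℤ),
    Finset.prod_pos fun i _ => (q i).den_pos, fun i => ?_⟩
  rw [← Finset.mul_prod_erase _ _ (Finset.mem_univ i)]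
  push_cast
  have h := (q i).mul_den_eq_num
  calc ((q i).num : ℚ) * ∏ j ∈ Finset.univ.erase i, ((q j).den : ℚ)
      = q i * (q i).den * ∏ j ∈ Finset.univ.erase i, ((q j).den : ℚ) := by rw [h]
    _ = _ := by ring

end LinearAlgebra

variable {k : Type u} [Field k] {X : Scheme.{u}} [X.Over (Spec (CommRingCat.of k))] [PicGrp.Law X]

section Classes

theorem clR_congr {L M : X.Modules} (hL : PicF.IsInvertible L) (hM : PicF.IsInvertible M) (e : L ≅ M) :
    clR k X L hL = clR k X M hM := by
  rw [NumR.clR_def, NumR.clR_def, NumR.cl, NumR.cl, (PicGrp.cls_eq_cls_iff hL hM).2 ⟨e⟩]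

theorem clR_tensor {L M : X.Modules} (hL : PicF.IsInvertible L) (hM : PicF.IsInvertible M)
    (hLM : PicF.IsInvertible (CohB1.tensorMod L M)) :
    clR k X (CohB1.tensorMod L M) hLM = clR k X L hL + clR k X M hM := by
  rw [NumR.clR_def, NumR.clR_def, NumR.clR_def, ← map_add, NumR.cl, NumR.cl, NumR.cl, ← map_add, ← ofMul_mul]
  congr 3
  refine Subtype.ext ?_
  rw [PicGrp.cls_val, PicGrp.cls_mul_cls_val]

theorem clR_structureModule (h : PicF.IsInvertible (Coh.structureModule X)) :
    clR k X (Coh.structureModule X) h = 0 := by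
  have h1 : PicGrp.cls (Coh.structureModule X) h = 1 := (PicGrp.cls_eq_one_iff h).2 ⟨Iso.refl _⟩
  rw [NumR.clR_def, NumR.cl, h1, ofMul_one, map_zero, map_zero]

theorem clR_pow {L : X.Modules} (hL : PicF.IsInvertible L) :
    ∀ n : ℕ, clR k X (CohB1.tensorPow L n) (Groth.L18.Ample.isInvertible_tensorPow hL n) = (n : ℝ) • clR k X L hL
  | 0 => by
    rw [Nat.cast_zero, zero_smul]
    exact clR_structureModule (k := k) _
  | n + 1 => by
    rw [Nat.cast_succ, add_smul, one_smul, ← clR_pow hL n]
    exact clR_tensor (Groth.L18.Ample.isInvertible_tensorPow hL n) hL _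

/-- Positive multiples of integral classes. -/
def IsRat (x : N1R k X) : Prop :=
  ∃ (c : ℝ) (N : X.Modules) (hN : PicF.IsInvertible N), 0 < c ∧ x = c • clR k X N hN

theorem exists_clR_sum {ι : Type*} [Fintype ι] {L : ι → X.Modules} (hL : ∀ i, PicF.IsInvertible (L i)) (z : ι → ℤ) :
    ∃ (N : X.Modules) (hN : PicF.IsInvertible N), clR k X N hN = ∑ i, (z i : ℝ) • clR k X (L i) (hL i) := by
  obtain ⟨N, hN, h⟩ := NumR.exists_eq_cl (k := k) (X := X) (∑ i, z i • NumR.cl k X (L i) (hL i))
  refine ⟨N, hN, ?_⟩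
  rw [NumR.clR_def, ← h, map_sum]
  refine Finset.sum_congr rfl fun i _ => ?_
  rw [map_zsmul, Int.cast_smul_eq_zsmul, NumR.clR_def]

theorem exists_basis [Module.Finite ℝ (N1R k X)] :
    ∃ (ι : Type (u + 1)) (_ : Fintype ι) (L : ι → X.Modules) (hL : ∀ i, PicF.IsInvertible (L i))
      (b : Module.Basis ι ℝ (N1R k X)), ∀ i, b i = clR k X (L i) (hL i) := by
  classical
  have hs := (NumR.span_clR (k := k) (X := X)).ge
  let b := Module.Basis.ofSpan hs
  have hb : ∀ i, ∃ (L : X.Modules) (hL : PicF.IsInvertible L), b i = clR k X L hL :=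
    fun i => Module.Basis.ofSpan_subset hs ⟨i, rfl⟩
  choose L hL h using hb
  haveI := FiniteDimensional.fintypeBasisIndex b
  exact ⟨_, inferInstance, L, hL, b, h⟩

theorem continuous_linear (f : N1R k X →ₗ[ℝ] ℝ) : Continuous f :=
  IsModuleTopology.continuous_of_linearMap f

variable [Module.Finite ℝ (N1R k X)]

/-- A convex set containing the rational points of an open set contains the open set. -/
theorem subset_of_rat {U C : Set (N1R k X)} (hU : IsOpen U) (hC : Convex ℝ C)
    (h : ∀ x ∈ U, IsRat x → x ∈ C) : U ⊆ C := by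
  classical
  obtain ⟨ι, _, L, hL, b, hb⟩ := exists_basis (k := k) (X := X)
  suffices ∀ (s : Finset ι) (x : N1R k X), x ∈ U → (∀ i ∉ s, ∃ q : ℚ, b.repr x i = q) → x ∈ C from
    fun x hx => this Finset.univ x hx fun i hi => absurd (Finset.mem_univ i) hi
  intro s
  induction s using Finset.induction_on with
  | empty =>
    intro x hx hq
    choose q hq using fun i => hq i (Finset.notMem_empty i)
    obtain ⟨D, z, hD, hz⟩ := exists_int q
    obtain ⟨N, hN, hN'⟩ := exists_clR_sum (k := k) hL z
    refine h x hx ⟨(D : ℝ)⁻¹, N, hN, by positivity, ?_⟩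
    rw [hN', Finset.smul_sum, ← b.sum_repr x]
    refine Finset.sum_congr rfl fun i _ => ?_
    have hz' : (z i : ℝ) = (D : ℝ) * (q i : ℝ) := by exact_mod_cast hz i
    rw [hq, smul_smul, hb, hz', inv_mul_cancel_left₀ (by positivity)]
  | insert i s hi ih =>
    intro x hx hq
    let g : ℝ → N1R k X := fun t => x + t • b i
    have hg : Continuous g := continuous_const.add (continuous_id.smul continuous_const)
    obtain ⟨δ, hδ, hball⟩ := Metric.isOpen_iff.1 (hU.preimage hg) 0 (by simpa [g] using hx)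
    have hpt : ∀ q : ℚ, |(q : ℝ) - b.repr x i| < δ → g ((q : ℝ) - b.repr x i) ∈ C := fun q hq' => by
      refine ih _ (hball ?_) fun j hj => ?_
      · simpa [Metric.mem_ball] using hq'
      · by_cases hji : j = i
        · subst hji
          exact ⟨q, by simp [g]⟩
        · obtain ⟨r, hr⟩ := hq j (by simp [hji, hj])
          exact ⟨r, by simp [g, hji, hr, Ne.symm hji]⟩
    obtain ⟨q₁, h1, h1'⟩ := exists_rat_btwn (show b.repr x i - δ < b.repr x i by linarith)
    obtain ⟨q₂, h2, h2'⟩ := exists_rat_btwn (show b.repr x i < b.repr x i + δ by linarith)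
    have m1 := hpt q₁ (abs_lt.2 ⟨by linarith, by linarith⟩)
    have m2 := hpt q₂ (abs_lt.2 ⟨by linarith, by linarith⟩)
    set c := b.repr x i
    have hpos : (0 : ℝ) < (q₂ : ℝ) - q₁ := by linarith
    have := hC m1 m2 (show 0 ≤ ((q₂ : ℝ) - c) / ((q₂ : ℝ) - q₁) from div_nonneg (by linarith) hpos.le)
      (show 0 ≤ (c - (q₁ : ℝ)) / ((q₂ : ℝ) - q₁) from div_nonneg (by linarith) hpos.le)
      (by field_simp; ring)
    convert this using 1
    simp only [g, smul_add, smul_smul]
    rw [add_add_add_comm, ← add_smul, ← add_smul]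
    have e1 : ((q₂ : ℝ) - c) / ((q₂ : ℝ) - q₁) + (c - (q₁ : ℝ)) / ((q₂ : ℝ) - q₁) = 1 := by field_simp; ring
    have e2 : ((q₂ : ℝ) - c) / ((q₂ : ℝ) - q₁) * ((q₁ : ℝ) - c) +
        (c - (q₁ : ℝ)) / ((q₂ : ℝ) - q₁) * ((q₂ : ℝ) - c) = 0 := by field_simp; ring
    rw [e1, e2, one_smul, zero_smul, add_zero]

theorem exists_rat {U : Set (N1R k X)} (hU : IsOpen U) {x : N1R k X} (hx : x ∈ U) : ∃ y ∈ U, IsRat y := by
  by_contra hne
  exact subset_of_rat hU convex_empty (fun y hy hr => hne ⟨y, hy, hr⟩) hx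

/-- A closed set containing the rational points is everything. -/
theorem mem_of_isClosed {S : Set (N1R k X)} (hS : IsClosed S) (h : ∀ x, IsRat x → x ∈ S) (x : N1R k X) : x ∈ S := by
  by_contra hx
  obtain ⟨y, hy, hr⟩ := exists_rat hS.isOpen_compl hx
  exact hy (h y hr)

end Classes

section Form

variable [IsProper (X ↘ Spec (CommRingCat.of k))] [IsIntegral X]
  (hdim : topologicalKrullDim X = 2) {B : N1R k X →ₗ[ℝ] N1R k X →ₗ[ℝ] ℝ} (hB : NumR.IsIntForm₂ k X B)

include hdim hB

theorem B_clR {L M : X.Modules} (hL : PicF.IsInvertible L) (hM : PicF.IsInvertible M) :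
    B (clR k X L hL) (clR k X M hM) = ((ii k L M : ℚ) : ℝ) := by
  rw [hB L M hL hM, ← intNum_eq_ii k (hdim.trans Nat.cast_ofNat.symm).le L M]
  norm_cast

theorem B_symm (x y : N1R k X) : B x y = B y x := by
  have : B = B.flip := by
    refine LinearMap.ext_on NumR.span_clR ?_
    rintro _ ⟨L, hL, rfl⟩
    refine LinearMap.ext_on NumR.span_clR ?_
    rintro _ ⟨M, hM, rfl⟩
    rw [LinearMap.flip_apply, B_clR hdim hB, B_clR hdim hB, ii_comm]
  exact LinearMap.congr_fun (LinearMap.congr_fun this x) y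

theorem deg_curve {L : X.Modules} (hL : PicF.IsInvertible L) (I : X.IdealSheafData)
    (hI : PicF.IsInvertible (ClSub.idealMod I)) :
    B (clR k X L hL) (curveCl k X I hI) = ((altT k (fun _ : Fin 1 => L) (ClSub.quotMod I) : ℚ) : ℝ) := by
  rw [altT_quotMod_eq k hL I hI, curveCl, map_neg, B_clR hdim hB, ii_comm]
  push_cast
  rfl

variable (hreg : ∀ x : X, IsRegularLocalRing (X.presheaf.stalk x))

variable (k) in
omit hB in
include k hreg in
theorem inv_pt {y : X} (hy : topologicalKrullDim (closure ({y} : Set X)) = (1 : ℕ)) :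
    PicF.IsInvertible (ClSub.idealMod (pt y)) :=
  haveI := isIntegral_pt y
  isInvertible_idealMod k (hdim.trans Nat.cast_ofNat.symm) hreg (pt y)
    (by rw [Groth.L18.support_vanishingIdeal]; exact hy.trans Nat.cast_one)

include hreg in
theorem nonneg_pt {x : N1R k X} (hx : x ∈ NumR.nefCone₂ k X B) {y : X}
    (hy : topologicalKrullDim (closure ({y} : Set X)) = (1 : ℕ)) :
    0 ≤ B x (curveCl k X (pt y) (inv_pt k hdim hreg hy)) :=
  hx (pt y) (isIntegral_pt y) (by rw [Groth.L18.support_vanishingIdeal]; exact hy.trans Nat.cast_one) _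

include hreg in
/-- A class pairing to zero with everything is numerically trivial. -/
theorem clR_eq_zero {N : X.Modules} (hN : PicF.IsInvertible N)
    (h : ∀ (M : X.Modules) (hM : PicF.IsInvertible M), B (clR k X N hN) (clR k X M hM) = 0) :
    clR k X N hN = 0 := by
  have hn : Pic13.IsNumEquivZero k X N := by
    intro Y i _ hY hd
    haveI := hY
    have hd' : topologicalKrullDim Y = (1 : ℕ) := hd.trans Nat.cast_one.symm
    have hy := (dim_closure_image i).trans hd'
    have h1 := curveDeg_eq k hN i hd'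
    have h2 := deg_curve hdim hB hN (pt (i (genericPoint Y))) (inv_pt k hdim hreg hy)
    rw [curveCl, map_neg, h _ (inv_pt k hdim hreg hy), neg_zero] at h2
    exact_mod_cast (show ((Pic13.curveDeg k (i ≫ (X ↘ Spec (CommRingCat.of k)))
      ((Scheme.Modules.pullback i).obj N) : ℤ) : ℚ) = 0 by
        rw [h1]; exact Rat.cast_eq_zero.1 h2.symm)
  rw [NumR.clR_def, NumR.cl_eq_zero hN hn, map_zero]

include hreg in
theorem eq_zero_of_pairing [Module.Finite ℝ (N1R k X)] {x : N1R k X} (h : ∀ w, B x w = 0) : x = 0 := by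
  classical
  obtain ⟨ι, _, L, hL, b, hb⟩ := exists_basis (k := k) (X := X)
  have hc := real_of_rat (fun i j => ii k (L i) (L j)) (fun q hq => ?_) (b.repr x) fun j => ?_
  · rw [← b.sum_repr x]
    simp [congrFun hc]
  · obtain ⟨D, z, hD, hz⟩ := exists_int q
    obtain ⟨N, hN, hN'⟩ := exists_clR_sum (k := k) hL z
    have h0 : ∀ j, B (clR k X N hN) (b j) = 0 := fun j => by
      have h1 : ((∑ i, (z i : ℚ) * ii k (L i) (L j) : ℚ) : ℝ) = 0 := by
        rw [Rat.cast_eq_zero]
        simp only [hz, mul_assoc, ← Finset.mul_sum, hq j, mul_zero]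
      rw [← h1, hN', map_sum, LinearMap.sum_apply, Rat.cast_sum]
      refine Finset.sum_congr rfl fun i _ => ?_
      rw [map_smul, LinearMap.smul_apply, hb, B_clR hdim hB, smul_eq_mul, Rat.cast_mul, Rat.cast_intCast]
    have h0' : B (clR k X N hN) = 0 := b.ext fun j => by rw [h0, LinearMap.zero_apply]
    have hz0 : clR k X N hN = 0 := clR_eq_zero hdim hB hreg hN fun M hM => by rw [h0', LinearMap.zero_apply]
    rw [hN'] at hz0
    simp only [← hb] at hz0
    funext i
    have hi : (z i : ℝ) = 0 := Fintype.linearIndependent_iff.1 b.linearIndependent _ hz0 i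
    have hi' : (z i : ℚ) = 0 := by exact_mod_cast hi
    rw [hz] at hi'
    exact (mul_eq_zero.1 hi').resolve_left (by positivity)
  · rw [← h (b j)]
    conv_rhs => rw [← b.sum_repr x, map_sum, LinearMap.sum_apply]
    refine Finset.sum_congr rfl fun i _ => ?_
    rw [map_smul, LinearMap.smul_apply, hb, hb, B_clR hdim hB, smul_eq_mul]

include hreg in
/-- The class of an effective module is a sum of curves. -/
theorem exists_decomp {N : X.Modules} (hN : PicF.IsInvertible N) {s : Coh.structureModule X ⟶ N} (hs : s ≠ 0) :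
    ∃ (S : Finset X) (hS : ∀ y ∈ S, topologicalKrullDim (closure ({y} : Set X)) = (1 : ℕ)) (m : X → ℕ),
      (∀ y : X, topologicalKrullDim (closure ({y} : Set X)) = (1 : ℕ) → y ∉ S → y ∈ CohB1.genLocus N s) ∧
      ∀ x : N1R k X, B x (clR k X N hN) =
        ∑ y ∈ S.attach, (m y.1 : ℝ) * B x (curveCl k X (pt y.1) (inv_pt k hdim hreg (hS y.1 y.2))) := by
  haveI := Groth.L21.RR.isNoetherian_of_proper (X := X) k
  haveI : Mono s := Groth.L22.Nakai.mono_of_injective (Groth.L18.Ample.isInvertible_structureModule X) s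
    (bijective_stalk_section s (Groth.L22.CurveAmple.genericPoint_mem_genLocus hN hs)).1
  obtain ⟨hD, hη⟩ := cokernel_facts k (Groth.L18.Ample.isInvertible_structureModule X) hN s
  have hT := Groth.L16.CohSupport.isClosed_support (cokernel s) hD.2
  have hd1 : topologicalKrullDim (CohB1.support (cokernel s)) ≤ (1 : ℕ) :=
    dim_le_of_generic_notMem hT hη (hdim.trans Nat.cast_ofNat.symm).le
  let S := (finite_top hT hd1).toFinset
  have hmem : ∀ y, y ∈ S ↔ y ∈ CohB1.support (cokernel s) ∧
      topologicalKrullDim (closure ({y} : Set X)) = ((1 : ℕ) : WithBot ℕ∞) := fun y => Set.Finite.mem_toFinset _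
  refine ⟨S, fun y hy => ((hmem y).1 hy).2, fun y => (Groth.L16.CohSupport.len y (cokernel s)).toNat,
    fun y hy hyS => ?_, fun x => ?_⟩
  · by_contra hg
    refine hyS ((hmem y).2 ⟨?_, hy⟩)
    haveI : Coh.IsQCoh N := (Groth.L18.Ample.isCoh_of_isInvertible hN).1
    rw [Groth.L21.RR.mem_genLocus_iff hN] at hg
    by_contra hns
    exact hg ((notMem_support_cokernel_iff ..).1 hns)
  · suffices B.flip (clR k X N hN) = ∑ y ∈ S.attach,
        ((Groth.L16.CohSupport.len y.1 (cokernel s)).toNat : ℝ) •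
          B.flip (curveCl k X (pt y.1) (inv_pt k hdim hreg ((hmem y.1).1 y.2).2)) by
      have h := LinearMap.congr_fun this x
      simpa [LinearMap.flip_apply] using h
    refine LinearMap.ext_on NumR.span_clR ?_
    rintro _ ⟨L, hL, rfl⟩
    rw [LinearMap.flip_apply, LinearMap.sum_apply, B_clR hdim hB, ii_comm,
      ii_eq_coker k (hdim.trans Nat.cast_ofNat.symm).le hN hL s,
      altT_eq_sum k (fun _ => hL) hT hd1 S hmem (fun y => ClSub.quotMod (pt y)) (fun y _ => pt_facts y) hD subset_rfl,
      ← Finset.sum_attach, Rat.cast_sum]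
    refine Finset.sum_congr rfl fun y _ => ?_
    rw [LinearMap.smul_apply, LinearMap.flip_apply, deg_curve hdim hB hL, smul_eq_mul, Rat.cast_mul, Rat.cast_natCast]

include hreg in
theorem nef_pairing_eff {x : N1R k X} (hx : x ∈ NumR.nefCone₂ k X B) {N : X.Modules} (hN : PicF.IsInvertible N)
    (hE : IsEff N) : 0 ≤ B x (clR k X N hN) := by
  obtain ⟨e, he, s, hs⟩ := hE
  obtain ⟨S, hS, m, -, hsum⟩ := exists_decomp hdim hB hreg (Groth.L18.Ample.isInvertible_tensorPow hN e) hs
  have h : 0 ≤ B x (clR k X (CohB1.tensorPow N e) (Groth.L18.Ample.isInvertible_tensorPow hN e)) := by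
    rw [hsum x]
    exact Finset.sum_nonneg fun y _ => mul_nonneg (Nat.cast_nonneg _) (nonneg_pt hdim hB hreg hx (hS y.1 y.2))
  rw [clR_pow hN e, map_smul, smul_eq_mul] at h
  exact (mul_nonneg_iff_of_pos_left (Nat.cast_pos.2 he)).1 h

theorem mem_nefCone_of {x : N1R k X} (h : ∀ (y : X) (hy : topologicalKrullDim (closure ({y} : Set X)) = (1 : ℕ))
    (hi : PicF.IsInvertible (ClSub.idealMod (pt y))), 0 ≤ B x (curveCl k X (pt y) hi)) :
    x ∈ NumR.nefCone₂ k X B := by
  intro I hI hd hinv
  haveI := hI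
  have e := eq_pt I
  have hy := (dim_support I).symm.trans (hd.trans Nat.cast_one.symm)
  generalize I.subschemeι (genericPoint I.subscheme) = y at e hy
  subst e
  exact h y hy hinv

end Form

end Groth.L03.SurfNum
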