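import Groth.Agent.L03.SurfNum.Gram
import Groth.Agent.L07.PrinParts.GrBaseChange
import Groth.Agent.L22.Nef.Proper
import Groth.Agent.L22.EnrSev.Basic
import Groth.Agent.L21.CurveFlat
import Groth.Agent.L21.RR.IdealTwist
import Groth.Agent.L24.GrpdField.SubGrpd
import Groth.Agent.L26.AbDual.Classes
import Groth.Agent.L08.Cube.SliceFibre

/-!
Fibres of a fibration over a smooth curve have degree zero on vertical curves.
-/

set_option autoImplicit false
set_option backward.isDefEq.respectTransparency false
set_option linter.style.haveILetI false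
universe u

open CategoryTheory CategoryTheory.Limits AlgebraicGeometry TopologicalSpace

noncomputable section

namespace Groth.L03.SurfNum

open Groth.L22.Inter Groth.L22.Nef
open Groth.L00.Tensor (tensorIso tensorAssoc tensorComm tensorUnitRight tensorUnitLeft)

variable (k : Type u) [Field k] {C : Scheme.{u}} [C.Over (Spec (CommRingCat.of k))]
  [IsProper (C ↘ Spec (CommRingCat.of k))] [Smooth (C ↘ Spec (CommRingCat.of k))] [IsIntegral C]

include k in
/-- Surjective morphisms from integral schemes to smooth curves are flat. -/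
theorem flat_of_surjective (hdC : topologicalKrullDim C = 1) {S : Scheme.{u}} [IsIntegral S] (f : S ⟶ C)
    [Surjective f] : Flat f := by
  haveI := Groth.L21.RR.isNoetherian_of_proper (X := C) k
  refine Groth.L21.flat_of_nonconstant hdC.le (fun y => ⟨inferInstance, ?_⟩) f ?_
  · haveI : (IsLocalRing.maximalIdeal (C.presheaf.stalk y)).IsPrincipal :=
      Groth.L21.P1.isPrincipal_of_smooth (k := k) hdC.le y
    haveI : IsPrincipalIdealRing (C.presheaf.stalk y) :=
      ((tfae_of_isNoetherianRing_of_isLocalRing_of_isDomain (R := C.presheaf.stalk y)).out 4 0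
        (a := (IsLocalRing.maximalIdeal (C.presheaf.stalk y)).IsPrincipal)
        (b := IsPrincipalIdealRing (C.presheaf.stalk y))).1 ‹_›
    infer_instance
  · rw [Surjective.surj.range_eq]
    by_contra h
    haveI : Subsingleton C := Set.subsingleton_univ_iff.1 (Set.not_nontrivial_iff.1 h)
    have h0 : topologicalKrullDim C ≤ 0 := topologicalKrullDim_zero_of_discreteTopology C
    rw [hdC] at h0
    exact absurd (WithBot.coe_le_coe.1 h0) (by simp)

include k in
theorem genericPoint_notMem_point (hdC : topologicalKrullDim C = 1) {p : C} (hp : IsClosed ({p} : Set C)) :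
    genericPoint C ∉ ({p} : Set C) := fun h => by
  rw [Set.mem_singleton_iff] at h
  have h1 := (genericPoint_spec C).def
  rw [h, hp.closure_eq] at h1
  haveI : Subsingleton C := Set.subsingleton_univ_iff.1 (by rw [← h1]; exact Set.subsingleton_singleton)
  have h0 : topologicalKrullDim C ≤ 0 := topologicalKrullDim_zero_of_discreteTopology C
  rw [hdC] at h0
  exact absurd (WithBot.coe_le_coe.1 h0) (by simp)

variable {S : Scheme.{u}} [S.Over (Spec (CommRingCat.of k))] [IsProper (S ↘ Spec (CommRingCat.of k))]
  [IsIntegral S] (hdC : topologicalKrullDim C = 1) (f : S ⟶ C) [f.IsOver (Spec (CommRingCat.of k))]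
  [Surjective f] {p : C} (hp : IsClosed ({p} : Set C))

include k hdC hp in
/-- The ideal of a fibre is the pullback of the ideal of the point. -/
theorem fibre_ideal : PicF.IsInvertible (ClSub.idealMod (f.fiberι p).ker) ∧
    PicF.IsInvertible (ClSub.idealMod (C.fromSpecResidueField p).ker) ∧
    ((f.fiberι p).ker.support : Set S) = f ⁻¹' {p} ∧
    Nonempty ((Scheme.Modules.pullback f).obj (ClSub.idealMod (C.fromSpecResidueField p).ker) ≅
      ClSub.idealMod (f.fiberι p).ker) := by
  haveI := Groth.L21.RR.isNoetherian_of_proper (X := S) k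
  haveI := Groth.L21.RR.isNoetherian_of_proper (X := C) k
  haveI : IsClosedImmersion (C.fromSpecResidueField p) := isClosed_singleton_iff_isClosedImmersion.mp hp
  have hsupp : ((C.fromSpecResidueField p).ker.support : Set C) = {p} := by
    rw [Scheme.Hom.support_ker]
    show closure (Set.range (C.fromSpecResidueField p)) = _
    rw [Scheme.range_fromSpecResidueField, hp.closure_eq]
  have hI := Groth.L21.RR.isInvertible_idealMod k hdC (C.fromSpecResidueField p).ker
    (by rw [hsupp]; exact genericPoint_notMem_point k hdC hp)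
  haveI := flat_of_surjective k hdC f
  have hker : (f.fiberι p).ker = (C.fromSpecResidueField p).ker.comap f :=
    Groth.L17.Thick.ker_of_isPullback (IsPullback.of_hasPullback f (C.fromSpecResidueField p))
  obtain ⟨α, -, -, hiso⟩ := Groth.L07.PrinParts.exists_idealMap f (C.fromSpecResidueField p).ker _ hker
  haveI := hiso (Groth.L07.PrinParts.mono_pullback_idealι f _)
  refine ⟨Groth.L18.Ample.isInvertible_of_iso (asIso α) (Groth.L18.Ample.isInvertible_pullback f hI), hI,
    ?_, ⟨asIso α⟩⟩
  rw [hker, Scheme.IdealSheafData.support_comap]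
  exact congrArg (f ⁻¹' ·) hsupp

include k hdC hp in
/-- The fibre class has degree zero on curves inside the fibre. -/
theorem fibre_deg_zero {LF : S.Modules} (hLF : ClSub.IsInverseOf LF (ClSub.idealMod (f.fiberι p).ker))
    (Γ : S.IdealSheafData) [IsIntegral Γ.subscheme] (hd : topologicalKrullDim (Γ.support : Set S) = 1)
    (hsub : (Γ.support : Set S) ⊆ f ⁻¹' {p}) :
    altT k (fun _ : Fin 1 => LF) (ClSub.quotMod Γ) = 0 := by
  haveI := Groth.L21.RR.isNoetherian_of_proper (X := S) k
  obtain ⟨hIF, hIp, -, ⟨α⟩⟩ := fibre_ideal k hdC f hp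
  obtain ⟨e⟩ := hLF
  have hLF' : PicF.IsInvertible LF := Groth.L22.EnrSev.isInvertible_of_inverse hIF (tensorComm _ _ ≪≫ e)
  haveI : IsClosedImmersion (C.fromSpecResidueField p) := isClosed_singleton_iff_isClosedImmersion.mp hp
  let g := Γ.subschemeι
  obtain ⟨t, ht⟩ : ∃ t : Γ.subscheme ⟶ Spec (C.residueField p), t ≫ C.fromSpecResidueField p = g ≫ f := by
    refine Groth.L24.GrpdField.exists_lift_of_range_subset (C.fromSpecResidueField p) (g ≫ f) ?_
    rintro _ ⟨z, rfl⟩
    rw [Scheme.range_fromSpecResidueField]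
    exact hsub (by rw [← Scheme.IdealSheafData.range_subschemeι]; exact Set.mem_range_self z)
  haveI : Subsingleton (Spec (C.residueField p)) :=
    inferInstanceAs (Subsingleton (PrimeSpectrum (C.residueField p)))
  obtain ⟨θ⟩ := (PicGrp.cl_eq_cl_iff _ _).1
    (Groth.Agent.AbDualLib.eq_oneCl_of_subsingleton (Y := Spec (C.residueField p))
      (c := PicF.cl ((Scheme.Modules.pullback (C.fromSpecResidueField p)).obj
        (ClSub.idealMod (C.fromSpecResidueField p).ker)))
      ⟨_, rfl, Groth.L18.Ample.isInvertible_pullback _ hIp⟩)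
  let θI : (Scheme.Modules.pullback g).obj (ClSub.idealMod (f.fiberι p).ker) ≅ Coh.structureModule Γ.subscheme :=
    (Scheme.Modules.pullback g).mapIso α.symm ≪≫ (Scheme.Modules.pullbackComp g f).app _ ≪≫
      (Scheme.Modules.pullbackCongr ht.symm).app _ ≪≫ ((Scheme.Modules.pullbackComp t _).app _).symm ≪≫
      (Scheme.Modules.pullback t).mapIso θ ≪≫ Groth.L29.LocFree.pullbackUnitIso t
  let ψ := Groth.L29.DC.PullTensor.pullTensor g LF (ClSub.idealMod (f.fiberι p).ker)
  let θL : (Scheme.Modules.pullback g).obj LF ≅ Coh.structureModule Γ.subscheme :=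
    (tensorUnitRight _).symm ≪≫ tensorIso (Iso.refl _) θI.symm ≪≫ ψ ≪≫
      (Scheme.Modules.pullback g).mapIso e ≪≫ Groth.L29.LocFree.pullbackUnitIso g
  letI : Γ.subscheme.Over (Spec (CommRingCat.of k)) := ⟨g ≫ (S ↘ Spec (CommRingCat.of k))⟩
  haveI : IsProper (Γ.subscheme ↘ Spec (CommRingCat.of k)) :=
    inferInstanceAs (IsProper (g ≫ (S ↘ Spec (CommRingCat.of k))))
  have hd' : topologicalKrullDim Γ.subscheme = (1 : ℕ) := by
    rw [← dim_closure_image g, ← dim_support Γ, hd, Nat.cast_one]
  have h2 := altT_push_eq k g rfl hd' (L := fun _ : Fin 1 => LF) fun _ => hLF'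
  rw [← eq_pt Γ] at h2
  rw [← h2]
  exact altT_trivial θL _

end Groth.L03.SurfNum
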