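import Groth.Agent.L03.SurfNum.Basic
import Groth.Agent.L22.Nef.Kleiman
import Groth.Agent.L22.Nef.NumTriv
import Groth.Agent.L08.Cube.DivSection

/-!
# The positive cone, the nef cone and the ample cone of a surface
-/

set_option autoImplicit false
set_option backward.isDefEq.respectTransparency false
set_option linter.style.haveILetI false
set_option linter.unusedSectionVars false

universe v u

open CategoryTheory CategoryTheory.Limits AlgebraicGeometry TopologicalSpace
open NumR (N1R clR curveCl toN1R toN1)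

noncomputable section

namespace Groth.L03.SurfNum

open Groth.L22.Inter Groth.L22.Nef Groth.L22.Big Groth.L03.Euler

variable {k : Type u} [Field k] {X : Scheme.{u}} [X.Over (Spec (CommRingCat.of k))] [PicGrp.Law X]

theorem continuous_quad [Module.Finite ℝ (N1R k X)] (B : N1R k X →ₗ[ℝ] N1R k X →ₗ[ℝ] ℝ) :
    Continuous fun x => B x x := by
  classical
  obtain ⟨ι, _, L, hL, b, -⟩ := exists_basis (k := k) (X := X)
  have h : (fun x => B x x) = fun x => ∑ i, b.repr x i * B (b i) x := by
    funext x
    conv_lhs => arg 1; arg 2; rw [← b.sum_repr x]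
    rw [map_sum, LinearMap.sum_apply]
    simp
  rw [h]
  exact continuous_finsetSum _ fun i _ => (continuous_linear (b.coord i)).mul (continuous_linear (B (b i)))

theorem continuous_left (B : N1R k X →ₗ[ℝ] N1R k X →ₗ[ℝ] ℝ) (w : N1R k X) : Continuous fun x => B x w :=
  continuous_linear (B.flip w)

theorem clR_inverse {L M : X.Modules} (hL : PicF.IsInvertible L) (hM : PicF.IsInvertible M)
    (e : CohB1.tensorMod L M ≅ Coh.structureModule X) : clR k X M hM = - clR k X L hL := by
  have h := clR_tensor (k := k) hL hM (Groth.L18.GenLoc.isInvertible_tensor hL hM)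
  rw [clR_congr _ (Groth.L18.Ample.isInvertible_structureModule X) e, clR_structureModule] at h
  exact eq_neg_of_add_eq_zero_right h.symm

variable [IsProper (X ↘ Spec (CommRingCat.of k))] [IsIntegral X]

section Ample

theorem mem_ampleCone {L : X.Modules} (hL : CohB1.IsAmple L) :
    clR k X L hL.1 ∈ NumR.ampleCone k X :=
  ConvexCone.subset_hull ⟨L, hL.1, hL, rfl⟩

theorem ampleCone_le {C : ConvexCone ℝ (N1R k X)}
    (h : ∀ (L : X.Modules) (hL : CohB1.IsAmple L), clR k X L hL.1 ∈ C) : NumR.ampleCone k X ≤ C :=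
  ConvexCone.hull_min fun _ ⟨L, _, hA, hx⟩ => hx ▸ h L hA

theorem exists_add_mem {L M : X.Modules} (hL : CohB1.IsAmple L) (hM : PicF.IsInvertible M) :
    ∃ n : ℕ, ((n : ℝ) + 1) • clR k X L hL.1 + clR k X M hM ∈ NumR.ampleCone k X := by
  obtain ⟨n, hn⟩ := exists_ample_twist (k := k) hL hM
  refine ⟨n, ?_⟩
  have hP := Groth.L18.Ample.isInvertible_tensorPow hL.1 n
  have h := mem_ampleCone (k := k) hn
  rw [clR_tensor hL.1 (Groth.L18.GenLoc.isInvertible_tensor hM hP), clR_tensor hM hP, clR_pow hL.1 n] at h
  rw [add_smul, one_smul]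
  convert h using 1
  abel

/-- The ample cone is open. -/
theorem isOpen_ampleCone [Module.Finite ℝ (N1R k X)] : IsOpen (NumR.ampleCone k X : Set (N1R k X)) := by
  classical
  let C := NumR.ampleCone k X
  have hadd : ∀ x ∈ C, ∀ z ∈ interior (C : Set (N1R k X)), x + z ∈ interior (C : Set (N1R k X)) := by
    intro x hx z hz
    have ho : IsOpen ((fun w => w - x) ⁻¹' interior (C : Set (N1R k X))) :=
      isOpen_interior.preimage (continuous_id.add continuous_const |>.congr fun w => (sub_eq_add_neg w x).symm)
    refine interior_maximal (fun w hw => ?_) ho (show (x + z) - x ∈ interior (C : Set (N1R k X)) by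
      rw [add_sub_cancel_left]; exact hz)
    simpa using C.add_mem hx (interior_subset hw)
  have hsmul : ∀ (c : ℝ), 0 < c → ∀ z ∈ interior (C : Set (N1R k X)), c • z ∈ interior (C : Set (N1R k X)) := by
    intro c hc z hz
    have ho : IsOpen ((fun w => c⁻¹ • w) ⁻¹' interior (C : Set (N1R k X))) :=
      isOpen_interior.preimage (continuous_const_smul c⁻¹)
    refine interior_maximal (fun w hw => ?_) ho (show c⁻¹ • c • z ∈ interior (C : Set (N1R k X)) by
      rw [inv_smul_smul₀ hc.ne']; exact hz)
    simpa [smul_smul, mul_inv_cancel₀ hc.ne'] using C.smul_mem hc (interior_subset hw)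
  let D : ConvexCone ℝ (N1R k X) :=
    { carrier := interior (C : Set (N1R k X))
      smul_mem' := fun c hc z hz => hsmul c hc z hz
      add_mem' := fun x hx z hz => hadd x (interior_subset hx) z hz }
  refine interior_eq_iff_isOpen.1 (subset_antisymm interior_subset ?_)
  refine SetLike.coe_subset_coe.2 (ampleCone_le (C := D) fun L hL => ?_)
  obtain ⟨ι, _, M, hM, b, hb⟩ := exists_basis (k := k) (X := X)
  choose M' hM' eM using fun i => Groth.L08.Cube.exists_inverse (hM i)
  choose n hn using fun i => exists_add_mem (k := k) hL (hM i)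
  choose n' hn' using fun i => exists_add_mem (k := k) hL (hM' i)
  set l := clR k X L hL.1
  let w : ι → ℝ := fun i => (n i : ℝ) + (n' i : ℝ) + 1
  have hpad : ∀ (a : ℕ) (z : N1R k X), ((a : ℝ) + 1) • l + z ∈ C → ∀ c : ℝ, (a : ℝ) + 1 ≤ c → c • l + z ∈ C := by
    intro a z hz c hc
    rcases hc.eq_or_lt with rfl | hlt
    · exact hz
    · have := C.add_mem (C.smul_mem (sub_pos.2 hlt) (mem_ampleCone hL)) hz
      convert this using 1
      rw [sub_smul]
      abel
  have hterm : ∀ (i : ι) (c : ℝ), c ≠ 0 → (|c| * w i) • l + c • b i ∈ C := by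
    intro i c hc
    rcases lt_or_gt_of_ne hc with hneg | hpos
    · have h := C.smul_mem (neg_pos.2 hneg) (hpad _ _ (hn' i) (w i) (by simp only [w]; linarith [Nat.cast_nonneg (α := ℝ) (n i)]))
      rw [clR_inverse (hM i) (hM' i) (eM i).some, ← hb, smul_add, smul_neg, smul_smul] at h
      rw [abs_of_neg hneg]
      simpa using h
    · have h := C.smul_mem hpos (hpad _ _ (hn i) (w i) (by simp only [w]; linarith [Nat.cast_nonneg (α := ℝ) (n' i)]))
      rw [← hb, smul_add, smul_smul] at h
      rwa [abs_of_pos hpos]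
  have hsum : ∀ (s : Finset ι) (c : ι → ℝ) (r : ℝ), ∑ i ∈ s, |c i| * w i < r →
      r • l + ∑ i ∈ s, c i • b i ∈ C := by
    intro s c
    induction s using Finset.induction_on with
    | empty => intro r hr; simpa using C.smul_mem (by simpa using hr) (mem_ampleCone hL)
    | insert i s hi ih =>
      intro r hr
      rw [Finset.sum_insert hi] at hr ⊢
      by_cases hc : c i = 0
      · rw [hc, zero_smul, zero_add]
        exact ih r (by simpa [hc] using hr)
      · convert C.add_mem (hterm i (c i) hc) (ih (r - |c i| * w i) (by linarith)) using 1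
        rw [sub_smul]
        abel
  have ho : IsOpen {x : N1R k X | ∑ i, |b.repr (x - l) i| * w i < 1} := by
    refine isOpen_lt (continuous_finsetSum _ fun i _ => ?_) continuous_const
    have hd : Continuous fun x : N1R k X => b.repr (x - l) i := by
      have : (fun x : N1R k X => b.repr (x - l) i) = fun x => b.coord i x - b.coord i l := by
        funext x; simp
      rw [this]
      exact (continuous_linear (b.coord i)).sub continuous_const
    exact hd.abs.mul continuous_const
  refine interior_maximal (fun x hx => ?_) ho (show ∑ i, |b.repr (l - l) i| * w i < 1 by simp)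
  show x ∈ C
  convert hsum Finset.univ _ 1 hx using 1
  rw [b.sum_repr, one_smul, add_sub_cancel]

end Ample

variable (hdim : topologicalKrullDim X = 2) {B : N1R k X →ₗ[ℝ] N1R k X →ₗ[ℝ] ℝ} (hB : NumR.IsIntForm₂ k X B)
include hdim hB

theorem hh_pos {H : X.Modules} (hH : CohB1.IsAmple H) : 0 < B (clR k X H hH.1) (clR k X H hH.1) := by
  rw [B_clR hdim hB]
  exact_mod_cast ii_ample_pos k (hdim.trans Nat.cast_ofNat.symm).le (hdim.trans Nat.cast_ofNat.symm) hH

theorem ample_ample_pos {L H : X.Modules} (hL : CohB1.IsAmple L) (hH : CohB1.IsAmple H) :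
    0 < B (clR k X L hL.1) (clR k X H hH.1) := by
  rw [B_clR hdim hB]
  have hd := (hdim.trans Nat.cast_ofNat.symm)
  obtain ⟨e, he, -, s, hs⟩ := exists_section_pow k hL
  exact_mod_cast ii_pos_of_eff k hd.le hL.1 hH (ii_ample_pos k hd.le hd hL) ⟨e, he, s, hs⟩

theorem pairing_pos_of_ample_curve {L : X.Modules} (hL : CohB1.IsAmple L) (I : X.IdealSheafData)
    [IsIntegral I.subscheme] (hd : topologicalKrullDim (I.support : Set X) = 1)
    (hI : PicF.IsInvertible (ClSub.idealMod I)) : 0 < B (clR k X L hL.1) (curveCl k X I hI) := by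
  rw [deg_curve hdim hB hL.1]
  refine Rat.cast_pos.2 ?_
  let g := I.subschemeι
  letI : I.subscheme.Over (Spec (CommRingCat.of k)) := ⟨g ≫ (X ↘ Spec (CommRingCat.of k))⟩
  haveI : IsProper (I.subscheme ↘ Spec (CommRingCat.of k)) :=
    inferInstanceAs (IsProper (g ≫ (X ↘ Spec (CommRingCat.of k))))
  have hd' : topologicalKrullDim I.subscheme = (1 : ℕ) := by
    rw [← dim_closure_image g, ← dim_support I, hd, Nat.cast_one]
  have h1 := altT_push_eq k g rfl hd' (L := fun _ : Fin 1 => L) fun _ => hL.1
  rw [← eq_pt I] at h1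
  rw [← h1]
  exact altT_ample_pos k (Groth.L18.Ample.isAmple_pullback_of_isAffineHom g hL) hd'

/-- The curve pairing of a class of the ample cone. -/
theorem ampleCone_curve_pos {a : N1R k X} (ha : a ∈ NumR.ampleCone k X) (I : X.IdealSheafData)
    [IsIntegral I.subscheme] (hd : topologicalKrullDim (I.support : Set X) = 1)
    (hI : PicF.IsInvertible (ClSub.idealMod I)) : 0 < B a (curveCl k X I hI) := by
  let D : ConvexCone ℝ (N1R k X) :=
    { carrier := {a | 0 < B a (curveCl k X I hI)}
      smul_mem' := fun c hc x hx => by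
        show 0 < B (c • x) _
        rw [map_smul, LinearMap.smul_apply, smul_eq_mul]
        exact mul_pos hc hx
      add_mem' := fun x hx y hy => by
        show 0 < B (x + y) _
        rw [map_add, LinearMap.add_apply]
        exact add_pos hx hy }
  exact ampleCone_le (C := D) (fun L hL => pairing_pos_of_ample_curve hdim hB hL I hd hI) ha

theorem ampleCone_subset_nef {a : N1R k X} (ha : a ∈ NumR.ampleCone k X) : a ∈ NumR.nefCone₂ k X B :=
  fun I hI hd hinv => haveI := hI; (ampleCone_curve_pos hdim hB ha I hd hinv).le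

variable [Module.Finite ℝ (N1R k X)] {H : X.Modules} (hH : CohB1.IsAmple H)
include hH

local notation "h" => clR k X H (And.left hH)

/-- The Hodge index inequality. -/
theorem hodge (x : N1R k X) : B x x * B h h ≤ B x h ^ 2 := by
  refine mem_of_isClosed (S := {x | B x x * B h h ≤ B x h ^ 2})
    (isClosed_le ((continuous_quad B).mul continuous_const) ((continuous_left B h).pow 2)) ?_ x
  rintro _ ⟨c, N, hN, -, rfl⟩
  show B (c • _) (c • _) * _ ≤ B (c • _) _ ^ 2
  have hh := (orth_sq_le k (hdim.trans Nat.cast_ofNat.symm).le hN hN hH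
    (ii_ample_pos k (hdim.trans Nat.cast_ofNat.symm).le (hdim.trans Nat.cast_ofNat.symm) hH)).1
  have hh' : B (clR k X N hN) (clR k X N hN) * B h h ≤ B (clR k X N hN) h ^ 2 := by
    rw [B_clR hdim hB, B_clR hdim hB, B_clR hdim hB]
    exact_mod_cast hh
  simp only [map_smul, LinearMap.smul_apply, smul_eq_mul]
  nlinarith [mul_le_mul_of_nonneg_left hh' (sq_nonneg c)]

theorem orth_nonpos {x : N1R k X} (hx : B x h = 0) : B x x ≤ 0 := by
  have h1 := hodge hdim hB hH x
  rw [hx] at h1
  nlinarith [hh_pos hdim hB hH]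

theorem pairing_pos {x y : N1R k X} (hx : 0 < B x x) (hxh : 0 < B x h) (hy : 0 ≤ B y y) (hyh : 0 < B y h) :
    0 < B x y := by
  have h1 := orth_nonpos hdim hB hH (x := B y h • x - B x h • y) (by simp; ring)
  simp only [map_sub, map_smul, LinearMap.sub_apply, LinearMap.smul_apply, smul_eq_mul,
    B_symm hdim hB y x] at h1
  have h2 : 0 < B y h ^ 2 * B x x := by positivity
  have h3 : 0 ≤ B x h ^ 2 * B y y := by positivity
  have h4 : 0 < B x h * B y h := mul_pos hxh hyh
  nlinarith [h1, h2, h3, h4]

variable (hreg : ∀ x : X, IsRegularLocalRing (X.presheaf.stalk x))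
include hreg

theorem null_eq_zero {z : N1R k X} (hz : B z h = 0) (hzz : B z z = 0) : z = 0 := by
  refine eq_zero_of_pairing hdim hB hreg fun w => ?_
  have hh := hh_pos hdim hB hH
  set w' := w - (B w h / B h h) • h with hw'
  have hwh : B w' h = 0 := by simp [hw', hh.ne']
  have e : B z w = B z w' := by simp [hw', hz]
  have hc : B w' w' ≤ 0 := orth_nonpos hdim hB hH hwh
  set a := B z w'
  set c := B w' w'
  have key : ∀ t : ℝ, 2 * t * a + t ^ 2 * c ≤ 0 := fun t => by
    have := orth_nonpos hdim hB hH (x := z + t • w') (by simp [hz, hwh])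
    simp only [map_add, map_smul, LinearMap.add_apply, LinearMap.smul_apply, smul_eq_mul, hzz,
      B_symm hdim hB w' z] at this
    linarith
  rw [e]
  by_contra ha
  have h1 := key (a / (1 - c))
  have h1c : 0 < 1 - c := by linarith
  have : 2 * (a / (1 - c)) * a + (a / (1 - c)) ^ 2 * c = a ^ 2 * (2 - c) / (1 - c) ^ 2 := by
    field_simp; ring
  rw [this] at h1
  have : 0 < a ^ 2 * (2 - c) / (1 - c) ^ 2 := div_pos (mul_pos (pow_two_pos_of_ne_zero ha) (by linarith)) (by positivity)
  linarith

theorem eq_zero_of_orth {x y : N1R k X} (hx : x ∈ NumR.posCone k X B H hH.1) (hy : 0 ≤ B y y)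
    (hxy : B x y = 0) : y = 0 := by
  rcases lt_trichotomy (B y h) 0 with hneg | hzero | hpos
  · have := pairing_pos hdim hB hH hx.1 hx.2 (y := -y) (by simpa using hy) (by simpa using hneg)
    simp [hxy] at this
  · exact null_eq_zero hdim hB hH hreg hzero (le_antisymm (orth_nonpos hdim hB hH hzero) hy)
  · have := pairing_pos hdim hB hH hx.1 hx.2 hy hpos
    linarith

omit hreg in
theorem isOpen_posCone : IsOpen (NumR.posCone k X B H hH.1) :=
  (isOpen_lt continuous_const (continuous_quad B)).inter (isOpen_lt continuous_const (continuous_left B h))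

omit hreg in
theorem add_mem_posCone {x y : N1R k X} (hx : x ∈ NumR.posCone k X B H hH.1) (hy : y ∈ NumR.posCone k X B H hH.1) :
    x + y ∈ NumR.posCone k X B H hH.1 := by
  have hxy := pairing_pos hdim hB hH hx.1 hx.2 hy.1.le hy.2
  constructor
  · simp only [map_add, LinearMap.add_apply, B_symm hdim hB y x]
    linarith [hx.1, hy.1]
  · simp only [map_add, LinearMap.add_apply]
    exact add_pos hx.2 hy.2

omit hreg in
theorem smul_mem_posCone {c : ℝ} (hc : 0 < c) {x : N1R k X} (hx : x ∈ NumR.posCone k X B H hH.1) :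
    c • x ∈ NumR.posCone k X B H hH.1 := by
  constructor
  · simp only [map_smul, LinearMap.smul_apply, smul_eq_mul]
    exact mul_pos hc (mul_pos hc hx.1)
  · simp only [map_smul, LinearMap.smul_apply, smul_eq_mul]
    exact mul_pos hc hx.2

omit hreg in
theorem convex_posCone : Convex ℝ (NumR.posCone k X B H hH.1) := by
  rintro x hx y hy a b ha hb hab
  rcases ha.eq_or_lt with rfl | ha
  · rw [zero_smul, zero_add, show b = 1 by linarith, one_smul]; exact hy
  rcases hb.eq_or_lt with rfl | hb
  · rw [zero_smul, add_zero, show a = 1 by linarith, one_smul]; exact hx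
  exact add_mem_posCone hdim hB hH (smul_mem_posCone hdim hB hH ha hx) (smul_mem_posCone hdim hB hH hb hy)

omit hreg in
theorem ampleCone_subset_posCone : (NumR.ampleCone k X : Set (N1R k X)) ⊆ NumR.posCone k X B H hH.1 :=
  SetLike.coe_subset_coe.2 (ampleCone_le (C :=
    { carrier := NumR.posCone k X B H hH.1
      smul_mem' := fun _ hc _ hx => smul_mem_posCone hdim hB hH hc hx
      add_mem' := fun _ hx _ hy => add_mem_posCone hdim hB hH hx hy })
    fun L hL => ⟨hh_pos hdim hB hL, ample_ample_pos hdim hB hL hH⟩)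

/-- A class of the positive cone is nonnegative on nef classes. -/
theorem nef_posCone_nonneg {x : N1R k X} (hx : x ∈ NumR.nefCone₂ k X B) :
    NumR.posCone k X B H hH.1 ⊆ {p | 0 ≤ B x p} := by
  refine subset_of_rat (isOpen_posCone hdim hB hH) (fun p hp q hq a b ha hb _ => ?_) fun p hp hr => ?_
  · show 0 ≤ B x (a • p + b • q)
    simp only [map_add, map_smul, smul_eq_mul]
    exact add_nonneg (mul_nonneg ha hp) (mul_nonneg hb hq)
  · obtain ⟨c, N, hN, hc, rfl⟩ := hr
    have hp1 := hp.1
    have hp2 := hp.2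
    simp only [map_smul, LinearMap.smul_apply, smul_eq_mul, B_clR hdim hB] at hp1 hp2
    have hE := isEff_of_pos k (hdim.trans Nat.cast_ofNat.symm).le hN hH
      (Rat.cast_pos.1 (pos_of_mul_pos_right (pos_of_mul_pos_right hp1 hc.le) hc.le))
      (Rat.cast_pos.1 (pos_of_mul_pos_right hp2 hc.le))
    show 0 ≤ B x (c • _)
    rw [map_smul, smul_eq_mul]
    exact mul_nonneg hc.le (nef_pairing_eff hdim hB hreg hx hN hE)

theorem nef_h_nonneg {x : N1R k X} (hx : x ∈ NumR.nefCone₂ k X B) : 0 ≤ B x h :=
  nef_posCone_nonneg hdim hB hH hreg hx ⟨hh_pos hdim hB hH, hh_pos hdim hB hH⟩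

theorem nef_self_nonneg {x : N1R k X} (hx : x ∈ NumR.nefCone₂ k X B) : 0 ≤ B x x := by
  by_contra hneg
  rw [not_le] at hneg
  have hh := hh_pos hdim hB hH
  have hxh := nef_h_nonneg hdim hB hH hreg hx
  -- a parameter with `x + t h` positive but pairing negatively with `x`
  have key : ∀ t : ℝ, 0 < t → 0 < B x x + 2 * t * B x h + t ^ 2 * B h h → 0 ≤ B x x + t * B x h := by
    intro t ht hpos
    have hm : x + t • h ∈ NumR.posCone k X B H hH.1 := by
      constructor
      · simp only [map_add, map_smul, LinearMap.add_apply, LinearMap.smul_apply, smul_eq_mul, B_symm hdim hB h x]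
        linarith
      · simp only [map_add, map_smul, LinearMap.add_apply, LinearMap.smul_apply, smul_eq_mul]
        linarith [mul_pos ht hh]
    have h1 : 0 ≤ B x (x + t • h) := nef_posCone_nonneg hdim hB hH hreg hx hm
    simpa using h1
  rcases hxh.eq_or_lt with h0 | h0
  · have h1 := key (1 + -B x x / B h h) (by linarith [div_pos (neg_pos.2 hneg) hh]) ?_
    · rw [← h0, mul_zero, add_zero] at h1; linarith
    · rw [← h0, mul_zero, add_zero]
      have h2 : (1 + -B x x / B h h) * B h h = B h h - B x x := by field_simp; ring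
      have h3 : 0 ≤ -B x x / B h h := (div_pos (neg_pos.2 hneg) hh).le
      nlinarith [mul_nonneg h3 (show 0 ≤ B h h - B x x by linarith)]
  · set s := -B x x / B x h with hs
    have hsx : s * B x h = -B x x := div_mul_cancel₀ _ h0.ne'
    have hspos : 0 < s := div_pos (neg_pos.2 hneg) h0
    have h1 := key (s / 2) (by linarith) (by nlinarith [mul_pos (mul_pos hspos hspos) hh])
    nlinarith

end Groth.L03.SurfNum
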