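import Groth.Agent.L03.SurfNum.Nakai

/-!
# Configurations of curves orthogonal to a big and nef class
-/

set_option autoImplicit false
set_option backward.isDefEq.respectTransparency false
set_option linter.style.haveILetI false
set_option linter.unusedSectionVars false

universe v u

open CategoryTheory CategoryTheory.Limits AlgebraicGeometry TopologicalSpace
open NumR (N1R clR curveCl toN1R toN1)

noncomputable section

namespace Groth.L03.SurfNum

open Groth.L22.Inter Groth.L22.Nef Groth.L22.Big Groth.L03.Euler

variable {k : Type u} [Field k] {X : Scheme.{u}} [X.Over (Spec (CommRingCat.of k))] [PicGrp.Law X]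
  [IsProper (X ↘ Spec (CommRingCat.of k))] [IsIntegral X]
  (hdim : topologicalKrullDim X = 2) {B : N1R k X →ₗ[ℝ] N1R k X →ₗ[ℝ] ℝ} (hB : NumR.IsIntForm₂ k X B)

include hdim hB

/-- Distinct curves meet nonnegatively. -/
theorem curve_curve_nonneg (I J : X.IdealSheafData) [IsIntegral I.subscheme] [IsIntegral J.subscheme]
    (hId : topologicalKrullDim (I.support : Set X) = 1) (hJd : topologicalKrullDim (J.support : Set X) = 1)
    (hI : PicF.IsInvertible (ClSub.idealMod I)) (hJ : PicF.IsInvertible (ClSub.idealMod J)) (hne : I ≠ J) :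
    0 ≤ B (curveCl k X I hI) (curveCl k X J hJ) := by
  obtain ⟨N, s, hN, ⟨e⟩, hloc⟩ :=
    Groth.L08.Cube.exists_section_of_effCartier I ((Groth.Agent.L19.IdealInvertible.isEffCartier_iff I).1 hI)
  have h1 : curveCl k X I hI = clR k X N hN := (clR_inverse hI hN e).symm
  rw [h1, deg_curve hdim hB hN]
  refine Rat.cast_nonneg.2 ?_
  set y := J.subschemeι (genericPoint J.subscheme)
  set z := I.subschemeι (genericPoint I.subscheme)
  have hy : topologicalKrullDim (closure ({y} : Set X)) = (1 : ℕ) :=
    (dim_support J).symm.trans (hJd.trans Nat.cast_one.symm)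
  have hys : y ∈ CohB1.genLocus N s := by
    by_contra hyg
    have hyI : y ∈ (I.support : Set X) := by
      by_contra h
      exact hyg (show y ∈ (CohB1.genLocus N s : Set X) from hloc ▸ h)
    rw [← Scheme.IdealSheafData.range_subschemeι, Groth.L22.Nef.range_eq_closure] at hyI
    have hzd : topologicalKrullDim (closure ({z} : Set X)) ≤ (1 : ℕ) :=
      ((dim_support I).symm.trans (hId.trans Nat.cast_one.symm)).le
    have hzy : z = y := eq_of_specializes_top isClosed_closure hzd hy (subset_closure rfl)
      (specializes_iff_mem_closure.2 hyI)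
    refine hne ?_
    rw [eq_pt I, eq_pt J]
    exact congrArg pt hzy
  have h2 := altT_pt_nonneg k (hdim.trans Nat.cast_ofNat.symm).le hN s hys hy
  rw [eq_pt J]
  exact h2

variable [Module.Finite ℝ (N1R k X)] {H : X.Modules} (hH : CohB1.IsAmple H)
  (hreg : ∀ x : X, IsRegularLocalRing (X.presheaf.stalk x))
  {r : ℕ} (C : Fin r → X.IdealSheafData) (hC : Function.Injective C)
  (hCi : ∀ i, IsIntegral (C i).subscheme) (hCd : ∀ i, topologicalKrullDim ((C i).support : Set X) = 1)
  (hCinv : ∀ i, PicF.IsInvertible (ClSub.idealMod (C i)))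

local notation "h" => clR k X H (And.left hH)
local notation "v" => fun i => curveCl k X (C i) (hCinv i)

include hC hCi hCd in
theorem sum_sum_nonneg (a b : Fin r → ℝ) (ha : ∀ i, 0 ≤ a i) (hb : ∀ i, 0 ≤ b i) (hab : ∀ i, a i * b i = 0) :
    0 ≤ B (∑ i, a i • v i) (∑ j, b j • v j) := by
  rw [B_sum_sum hdim hB]
  refine Finset.sum_nonneg fun i _ => Finset.sum_nonneg fun j _ => ?_
  by_cases hij : i = j
  · subst hij
    rw [hab, zero_mul]
  · haveI := hCi i
    haveI := hCi j
    exact mul_nonneg (mul_nonneg (ha i) (hb j))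
      (curve_curve_nonneg hdim hB _ _ (hCd i) (hCd j) _ _ fun e => hij (hC e))

include hH hreg hC hCi hCd in
theorem config_iff :
    (∃ x : N1R k X, x ∈ closure (NumR.ampleCone k X : Set (N1R k X)) ∧ x ∈ NumR.posCone k X B H hH.1 ∧
        ∀ i, x ∈ NumR.wall k X B (C i) (hCinv i)) ↔
      (∀ a : Fin r → ℤ, a ≠ 0 →
      ∑ i, ∑ j, a i * a j * FGA.intNum k X 2 ![(ClSub.idealMod (C i)), (ClSub.idealMod (C j))] (Coh.structureModule X) < 0) := by
  classical
  have hhv : ∀ i, 0 < B h (v i) := fun i =>
    haveI := hCi i; ampleCone_curve_pos hdim hB (mem_ampleCone hH) _ (hCd i) _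
  have hzero : ∀ a : Fin r → ℝ, (∀ i, 0 ≤ a i) → B h (∑ i, a i • v i) = 0 → a = 0 := by
    intro a ha h0
    simp only [map_sum, map_smul, smul_eq_mul] at h0
    funext i
    have := (Finset.sum_eq_zero_iff_of_nonneg fun j _ => mul_nonneg (ha j) (hhv j).le).1 h0 i (Finset.mem_univ i)
    exact (mul_eq_zero.1 this).resolve_right (hhv i).ne'
  constructor
  · rintro ⟨x, -, hx, hw⟩ a ha
    by_contra hge
    rw [not_lt] at hge
    have hw' : ∀ b : Fin r → ℝ, B x (∑ i, b i • v i) = 0 := fun b => by
      simp only [map_sum, map_smul, smul_eq_mul]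
      exact Finset.sum_eq_zero fun i _ => by rw [show B x (v i) = 0 from hw i, mul_zero]
    set u := ∑ i, (a i : ℝ) • v i with hu
    have huu : 0 ≤ B u u := by
      have e : B u u = ((∑ i, ∑ j, a i * a j * FGA.intNum k X 2 ![(ClSub.idealMod (C i)), (ClSub.idealMod (C j))]
          (Coh.structureModule X) : ℤ) : ℝ) := by
        rw [B_sum_sum hdim hB]
        simp only [B_curves hdim hB C hCinv, Int.cast_sum, Int.cast_mul]
      rw [e]
      exact_mod_cast hge
    have hu0 : u = 0 := eq_zero_of_orth hdim hB hH hreg hx huu (hw' _)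
    let p : Fin r → ℝ := fun i => max (a i : ℝ) 0
    let m : Fin r → ℝ := fun i => max (-(a i : ℝ)) 0
    have hpm : ∀ i, (a i : ℝ) = p i - m i := fun i => (max_zero_sub_max_neg_zero_eq_self _).symm
    have hd : ∀ i, p i * m i = 0 := fun i => by
      rcases le_total (a i : ℝ) 0 with h' | h'
      · simp [p, max_eq_right h']
      · simp [m, max_eq_right (neg_nonpos.2 h')]
    have hw2 : ∑ i, p i • v i = ∑ i, m i • v i := by
      rw [← sub_eq_zero, ← Finset.sum_sub_distrib, ← hu0, hu]
      exact Finset.sum_congr rfl fun i _ => by rw [hpm i, sub_smul]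
    have hnn : 0 ≤ B (∑ i, p i • v i) (∑ i, p i • v i) := by
      have := sum_sum_nonneg hdim hB C hC hCi hCd hCinv p m (fun i => le_max_right _ _) (fun i => le_max_right _ _) hd
      rwa [← hw2] at this
    have h0 : ∑ i, p i • v i = 0 := eq_zero_of_orth hdim hB hH hreg hx hnn (hw' p)
    have hp0 := hzero p (fun i => le_max_right _ _) (by rw [h0, map_zero])
    have hm0 := hzero m (fun i => le_max_right _ _) (by rw [← hw2, h0, map_zero])
    refine ha (funext fun i => ?_)
    have : (a i : ℝ) = 0 := by rw [hpm i, congrFun hp0 i, congrFun hm0 i]; simp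
    exact_mod_cast this
  · intro hneg
    let M : (Fin r → ℝ) →ₗ[ℝ] (Fin r → ℝ) :=
      { toFun := fun a j => B (∑ i, a i • v i) (v j)
        map_add' := fun a b => funext fun j => by simp [add_smul, Finset.sum_add_distrib]
        map_smul' := fun c a => funext fun j => by simp [Finset.mul_sum, mul_assoc] }
    have hM : Function.Injective M := LinearMap.ker_eq_bot.1 (LinearMap.ker_eq_bot'.2 fun a ha =>
      config_kernel hdim hB C hCinv hneg a fun j => congrFun ha j)
    obtain ⟨a, ha⟩ := LinearMap.surjective_of_injective hM (fun j => - B h (v j))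
    set x := h + ∑ i, a i • v i with hx
    have horth : ∀ j, B x (v j) = 0 := fun j => by
      have := congrFun ha j
      rw [hx, map_add, LinearMap.add_apply]
      linarith [show B (∑ i, a i • v i) (v j) = - B h (v j) from this]
    let p : Fin r → ℝ := fun i => max (a i) 0
    let m : Fin r → ℝ := fun i => max (-a i) 0
    have hpm : ∀ i, a i = p i - m i := fun i => (max_zero_sub_max_neg_zero_eq_self _).symm
    have hd : ∀ i, p i * m i = 0 := fun i => by
      rcases le_total (a i) 0 with h' | h'
      · simp [p, max_eq_right h']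
      · simp [m, max_eq_right (neg_nonpos.2 h')]
    have hxm : B x (∑ i, m i • v i) = 0 := by
      simp only [map_sum, map_smul, smul_eq_mul]
      exact Finset.sum_eq_zero fun i _ => by rw [horth i, mul_zero]
    have hsplit : x = h + ∑ i, p i • v i - ∑ i, m i • v i := by
      rw [hx, add_sub_assoc, ← Finset.sum_sub_distrib]
      exact congrArg (h + ·) (Finset.sum_congr rfl fun i _ => by rw [hpm i, sub_smul])
    rw [hsplit] at hxm
    simp only [map_sub, map_add, LinearMap.sub_apply, LinearMap.add_apply] at hxm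
    have h1 : 0 ≤ B h (∑ i, m i • v i) := by
      simp only [map_sum, map_smul, smul_eq_mul]
      exact Finset.sum_nonneg fun i _ => mul_nonneg (le_max_right _ _) (hhv i).le
    have h2 := sum_sum_nonneg hdim hB C hC hCi hCd hCinv p m (fun i => le_max_right _ _) (fun i => le_max_right _ _) hd
    have h3 := config_nonpos hdim hB C hCinv hneg m
    have hm0 : m = 0 := config_definite hdim hB C hCinv hneg m (by linarith)
    have hapos : ∀ i, 0 ≤ a i := fun i => by
      rw [hpm i, congrFun hm0 i, Pi.zero_apply, sub_zero]; exact le_max_right (a i) 0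
    have hxh : 0 < B x h := by
      rw [hx, map_add, LinearMap.add_apply, map_sum, LinearMap.sum_apply]
      refine add_pos_of_pos_of_nonneg (hh_pos hdim hB hH) (Finset.sum_nonneg fun i _ => ?_)
      rw [map_smul, LinearMap.smul_apply, B_symm hdim hB, smul_eq_mul]
      exact mul_nonneg (hapos i) (hhv i).le
    have hxx : 0 < B x x := by
      conv_rhs => arg 2; rw [hx]
      simp only [map_add, map_sum, map_smul, smul_eq_mul, horth, mul_zero, Finset.sum_const_zero, add_zero]
      exact hxh
    have hnef : x ∈ NumR.nefCone₂ k X B := fun I hI hd1 hinv => by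
      haveI := hI
      by_cases hIC : ∃ j, I = C j
      · obtain ⟨j, rfl⟩ := hIC
        exact (horth j).ge
      · rw [hx, map_add, LinearMap.add_apply, map_sum, LinearMap.sum_apply]
        refine add_nonneg (ampleCone_curve_pos hdim hB (mem_ampleCone hH) I hd1 hinv).le
          (Finset.sum_nonneg fun i _ => ?_)
        haveI := hCi i
        rw [map_smul, LinearMap.smul_apply, smul_eq_mul]
        exact mul_nonneg (hapos i)
          (curve_curve_nonneg hdim hB _ _ (hCd i) hd1 _ _ fun e => hIC ⟨i, e.symm⟩)
    refine ⟨x, ?_, ⟨hxx, hxh⟩, horth⟩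
    rw [closure_ampleCone hdim hB hH hreg]
    exact ⟨hxx.le, hnef⟩

end Groth.L03.SurfNum
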