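import Groth.Agent.L03.SurfNum.Cone

/-!
# Nakai's criterion for real classes, the closure of the ample cone, negative definite configurations
-/

set_option autoImplicit false
set_option backward.isDefEq.respectTransparency false
set_option linter.style.haveILetI false
set_option linter.unusedSectionVars false

universe v u

open CategoryTheory CategoryTheory.Limits AlgebraicGeometry TopologicalSpace
open NumR (N1R clR curveCl toN1R toN1)

noncomputable section

namespace Groth.L03.SurfNum

open Groth.L22.Inter Groth.L22.Nef Groth.L22.Big Groth.L03.Euler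

variable {k : Type u} [Field k] {X : Scheme.{u}} [X.Over (Spec (CommRingCat.of k))] [PicGrp.Law X]
  [IsProper (X ↘ Spec (CommRingCat.of k))] [IsIntegral X]
  (hdim : topologicalKrullDim X = 2) {B : N1R k X →ₗ[ℝ] N1R k X →ₗ[ℝ] ℝ} (hB : NumR.IsIntForm₂ k X B)
  [Module.Finite ℝ (N1R k X)] {H : X.Modules} (hH : CohB1.IsAmple H)
  (hreg : ∀ x : X, IsRegularLocalRing (X.presheaf.stalk x))

include hdim hB hH hreg

local notation "h" => clR k X H (And.left hH)

theorem h_mem_posCone : h ∈ NumR.posCone k X B H hH.1 := ⟨hh_pos hdim hB hH, hh_pos hdim hB hH⟩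

theorem nef_add_mem_ampleCone {x a : N1R k X} (hx : x ∈ NumR.nefCone₂ k X B)
    (ha : a ∈ NumR.ampleCone k X) : x + a ∈ (NumR.ampleCone k X : Set (N1R k X)) := by
  have ho : IsOpen ((fun w => w - x) ⁻¹' (NumR.ampleCone k X : Set (N1R k X))) :=
    isOpen_ampleCone.preimage (continuous_id.add continuous_const |>.congr fun w => (sub_eq_add_neg w x).symm)
  refine subset_of_rat ho (NumR.ampleCone k X).convex (fun y hy hr => ?_)
    (show (x + a) - x ∈ NumR.ampleCone k X by rw [add_sub_cancel_left]; exact ha)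
  obtain ⟨c, N, hN, hc, rfl⟩ := hr
  set n := clR k X N hN
  set b := c • n - x
  have hb : b ∈ NumR.ampleCone k X := hy
  have hcn : c • n = x + b := by simp [b]
  have hd : topologicalKrullDim (Set.univ : Set X) = (2 : ℕ) :=
    ((IsHomeomorph.topologicalKrullDim_eq _ (Homeomorph.Set.univ X).isHomeomorph).trans hdim).trans
      Nat.cast_ofNat.symm
  have hamp : CohB1.IsAmple N := Groth.L22.Nakai.isAmple_of_pos k hN fun y d hd0 hyd => by
    have hd2 : d ≤ 2 := by
      have := (hyd.symm.trans_le ((topologicalKrullDim_set_mono (Set.subset_univ _)).trans hd.le))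
      exact_mod_cast this
    rcases (show d = 1 ∨ d = 2 by omega) with rfl | rfl
    · haveI := isIntegral_pt y
      have hi := inv_pt k hdim hreg hyd
      have hs : topologicalKrullDim ((pt y).support : Set X) = 1 := by
        rw [Groth.L18.support_vanishingIdeal]; exact hyd.trans Nat.cast_one
      have h1 : 0 < B (c • n) (curveCl k X (pt y) hi) := by
        rw [hcn, map_add, LinearMap.add_apply]
        exact add_pos_of_nonneg_of_pos (hx _ inferInstance hs hi) (ampleCone_curve_pos hdim hB hb _ hs hi)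
      rw [map_smul, LinearMap.smul_apply, smul_eq_mul, deg_curve hdim hB hN] at h1
      exact Rat.cast_pos.1 (pos_of_mul_pos_right h1 hc.le)
    · have hy : genericPoint X = y := eq_of_specializes_top isClosed_univ hd.le hyd trivial (genericPoint_specializes y)
      rw [← hy, altT_integral k (hdim.trans Nat.cast_ofNat.symm) fun _ => hN]
      have h1 : 0 < B (c • n) (c • n) := by
        rw [hcn]
        have hp := ampleCone_subset_posCone hdim hB hH hb
        simp only [map_add, LinearMap.add_apply, B_symm hdim hB b x]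
        have h2 : 0 ≤ B x b := nef_posCone_nonneg hdim hB hH hreg hx hp
        linarith [hp.1, nef_self_nonneg hdim hB hH hreg hx]
      simp only [map_smul, LinearMap.smul_apply, smul_eq_mul] at h1
      rw [B_clR hdim hB] at h1
      rw [show (fun _ : Fin 2 => N) = ![N, N] from funext fun i => by fin_cases i <;> rfl, ii_vec]
      exact Rat.cast_pos.1 (pos_of_mul_pos_right (pos_of_mul_pos_right h1 hc.le) hc.le)
  exact (NumR.ampleCone k X).smul_mem hc (mem_ampleCone hamp)

/-- A class of the positive cone is negative on finitely many curves only. -/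
theorem finite_negative : NumR.posCone k X B H hH.1 ⊆
    {p | {y : X | ∃ hy : topologicalKrullDim (closure ({y} : Set X)) = (1 : ℕ),
      B p (curveCl k X (pt y) (inv_pt k hdim hreg hy)) < 0}.Finite} := by
  classical
  refine subset_of_rat (isOpen_posCone hdim hB hH) (fun p hp q hq a b ha hb _ => ?_) fun p hp hr => ?_
  · refine (hp.union hq).subset fun y ⟨hy, hneg⟩ => ?_
    by_contra hne
    rw [Set.mem_union, not_or] at hne
    have h1 : 0 ≤ B p (curveCl k X (pt y) (inv_pt k hdim hreg hy)) := not_lt.1 fun h' => hne.1 ⟨hy, h'⟩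
    have h2 : 0 ≤ B q (curveCl k X (pt y) (inv_pt k hdim hreg hy)) := not_lt.1 fun h' => hne.2 ⟨hy, h'⟩
    simp only [map_add, map_smul, LinearMap.add_apply, LinearMap.smul_apply, smul_eq_mul] at hneg
    linarith [mul_nonneg ha h1, mul_nonneg hb h2]
  · obtain ⟨c, N, hN, hc, rfl⟩ := hr
    have hp1 := hp.1
    have hp2 := hp.2
    simp only [map_smul, LinearMap.smul_apply, smul_eq_mul, B_clR hdim hB] at hp1 hp2
    obtain ⟨e, he, s, hs⟩ := isEff_of_pos k (hdim.trans Nat.cast_ofNat.symm).le hN hH
      (Rat.cast_pos.1 (pos_of_mul_pos_right (pos_of_mul_pos_right hp1 hc.le) hc.le))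
      (Rat.cast_pos.1 (pos_of_mul_pos_right hp2 hc.le))
    have hNe := Groth.L18.Ample.isInvertible_tensorPow hN e
    obtain ⟨S, hS, m, hoff, -⟩ := exists_decomp hdim hB hreg hNe hs
    refine S.finite_toSet.subset fun y ⟨hy, hneg⟩ => ?_
    by_contra hyS
    have h1 : 0 ≤ B (clR k X (CohB1.tensorPow N e) hNe) (curveCl k X (pt y) (inv_pt k hdim hreg hy)) := by
      rw [deg_curve hdim hB hNe]
      exact Rat.cast_nonneg.2 (altT_pt_nonneg k (hdim.trans Nat.cast_ofNat.symm).le hNe s (hoff y hy hyS) hy)
    rw [clR_pow hN e] at h1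
    simp only [map_smul, LinearMap.smul_apply, smul_eq_mul] at h1 hneg
    have h2 := (mul_nonneg_iff_of_pos_left (Nat.cast_pos.2 he)).1 h1
    exact absurd hneg (not_lt.2 (mul_nonneg hc.le h2))

/-- Nakai's criterion for real classes. -/
theorem mem_ampleCone_iff (x : N1R k X) :
    x ∈ (NumR.ampleCone k X : Set (N1R k X)) ↔
      (0 < B x x ∧ ∀ (I : X.IdealSheafData), IsIntegral I.subscheme →
        topologicalKrullDim (I.support : Set X) = 1 → ∀ hI : PicF.IsInvertible (ClSub.idealMod I),
          0 < B x (curveCl k X I hI)) := by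
  classical
  refine ⟨fun hx => ⟨(ampleCone_subset_posCone hdim hB hH hx).1,
    fun I hI hd hinv => haveI := hI; ampleCone_curve_pos hdim hB hx I hd hinv⟩, fun ⟨hxx, hxC⟩ => ?_⟩
  have hnef : x ∈ NumR.nefCone₂ k X B := fun I hI hd hinv => (hxC I hI hd hinv).le
  have hxh : 0 < B x h := (nef_h_nonneg hdim hB hH hreg hnef).lt_of_ne' fun h0 =>
    absurd (orth_nonpos hdim hB hH h0) (not_le.2 hxx)
  -- a small multiple of `h` keeps the class positive
  have ho : IsOpen ((fun t : ℝ => x - t • h) ⁻¹' NumR.posCone k X B H hH.1) :=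
    (isOpen_posCone hdim hB hH).preimage
      (((continuous_const (y := x)).add (continuous_neg.smul (continuous_const (y := h)))).congr
        fun t => by
          show x + (-t) • h = x - t • h
          rw [neg_smul, ← sub_eq_add_neg])
  obtain ⟨δ, hδ, hball⟩ := Metric.isOpen_iff.1 ho 0 (by
    show x - (0 : ℝ) • h ∈ NumR.posCone k X B H hH.1
    rw [zero_smul, sub_zero]; exact ⟨hxx, hxh⟩)
  have hp : x - (δ / 2) • h ∈ NumR.posCone k X B H hH.1 := hball (by
    rw [Metric.mem_ball, dist_zero_right, Real.norm_eq_abs, abs_of_pos (by linarith)]; linarith)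
  let F := (finite_negative hdim hB hH hreg hp).toFinset
  have hF : ∀ y ∈ F, topologicalKrullDim (closure ({y} : Set X)) = (1 : ℕ) :=
    fun y hy => ((Set.Finite.mem_toFinset _).1 hy).choose
  have hpos : ∀ (y : X) (hy : topologicalKrullDim (closure ({y} : Set X)) = (1 : ℕ)),
      0 < B x (curveCl k X (pt y) (inv_pt k hdim hreg hy)) ∧
      0 < B h (curveCl k X (pt y) (inv_pt k hdim hreg hy)) := fun y hy => by
    haveI := isIntegral_pt y
    have hs : topologicalKrullDim ((pt y).support : Set X) = 1 := by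
      rw [Groth.L18.support_vanishingIdeal]; exact hy.trans Nat.cast_one
    exact ⟨hxC _ inferInstance hs _, ampleCone_curve_pos hdim hB (mem_ampleCone hH) _ hs _⟩
  obtain ⟨ε, hεpos, hε1, hε2⟩ : ∃ ε : ℝ, 0 < ε ∧ ε ≤ δ / 2 ∧ ∀ y (hyF : y ∈ F),
      ε * B h (curveCl k X (pt y) (inv_pt k hdim hreg (hF y hyF))) ≤
        B x (curveCl k X (pt y) (inv_pt k hdim hreg (hF y hyF))) := by
    let q : {y // y ∈ F} → ℝ := fun y =>
      B x (curveCl k X (pt y.1) (inv_pt k hdim hreg (hF y.1 y.2))) /
        B h (curveCl k X (pt y.1) (inv_pt k hdim hreg (hF y.1 y.2)))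
    have hne : (insert (δ / 2) (F.attach.image q)).Nonempty := ⟨_, Finset.mem_insert_self _ _⟩
    refine ⟨(insert (δ / 2) (F.attach.image q)).min' hne, (Finset.lt_min'_iff _ _).2 fun v hv => ?_,
      Finset.min'_le _ _ (Finset.mem_insert_self _ _), fun y hyF => ?_⟩
    · rcases Finset.mem_insert.1 hv with rfl | hv
      · linarith
      · obtain ⟨y, -, rfl⟩ := Finset.mem_image.1 hv
        exact div_pos (hpos y.1 (hF y.1 y.2)).1 (hpos y.1 (hF y.1 y.2)).2
    · exact (le_div_iff₀ (hpos y (hF y hyF)).2).1 (Finset.min'_le _ (q ⟨y, hyF⟩)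
        (Finset.mem_insert_of_mem (Finset.mem_image_of_mem q (Finset.mem_attach _ _))))
  have hn : x - ε • h ∈ NumR.nefCone₂ k X B := mem_nefCone_of hdim hB fun y hy hi => by
    show 0 ≤ B (x - ε • h) _
    simp only [map_sub, map_smul, LinearMap.sub_apply, LinearMap.smul_apply, smul_eq_mul, sub_nonneg]
    have h2 := (hpos y hy).2
    by_cases hyF : y ∈ F
    · exact hε2 y hyF
    · have h3 : 0 ≤ B (x - (δ / 2) • h) (curveCl k X (pt y) hi) :=
        not_lt.1 fun h' => hyF ((Set.Finite.mem_toFinset _).2 ⟨hy, h'⟩)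
      simp only [map_sub, map_smul, LinearMap.sub_apply, LinearMap.smul_apply, smul_eq_mul, sub_nonneg] at h3
      exact le_trans (mul_le_mul_of_nonneg_right hε1 h2.le) h3
  have := nef_add_mem_ampleCone hdim hB hH hreg hn ((NumR.ampleCone k X).smul_mem hεpos (mem_ampleCone hH))
  rwa [sub_add_cancel] at this

theorem closure_ampleCone :
    closure (NumR.ampleCone k X : Set (N1R k X)) = {x | 0 ≤ B x x ∧ x ∈ NumR.nefCone₂ k X B} := by
  refine subset_antisymm (closure_minimal (fun a ha => ⟨(ampleCone_subset_posCone hdim hB hH ha).1.le,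
    ampleCone_subset_nef hdim hB ha⟩) ?_) fun x hx => ?_
  · refine (isClosed_le continuous_const (continuous_quad B)).inter ?_
    have : NumR.nefCone₂ k X B = ⋂ (I : X.IdealSheafData) (_ : IsIntegral I.subscheme)
        (_ : topologicalKrullDim (I.support : Set X) = 1) (hI : PicF.IsInvertible (ClSub.idealMod I)),
        {x | 0 ≤ B x (curveCl k X I hI)} := by
      ext x
      simp only [Set.mem_iInter]
      exact Iff.rfl
    show IsClosed (NumR.nefCone₂ k X B)
    rw [this]
    exact isClosed_iInter fun I => isClosed_iInter fun _ => isClosed_iInter fun _ => isClosed_iInter fun hI =>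
      isClosed_le continuous_const (continuous_left B _)
  · have hc : Continuous fun t : ℝ => x + t • h :=
      continuous_const.add (continuous_id'.smul (continuous_const (y := h)))
    refine mem_closure_of_tendsto (f := fun m : ℕ => x + (1 / ((m : ℝ) + 1)) • h) (b := Filter.atTop) ?_
      (Filter.Eventually.of_forall fun m =>
        nef_add_mem_ampleCone hdim hB hH hreg hx.2 ((NumR.ampleCone k X).smul_mem (by positivity) (mem_ampleCone hH)))
    have := (hc.tendsto 0).comp (tendsto_one_div_add_atTop_nhds_zero_nat (𝕜 := ℝ))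
    simpa [Function.comp_def] using this

theorem closure_ampleCone_inter :
    closure (NumR.ampleCone k X : Set (N1R k X)) ∩ NumR.posCone k X B H hH.1 =
      {x | 0 < B x x ∧ x ∈ NumR.nefCone₂ k X B} := by
  rw [closure_ampleCone hdim hB hH hreg]
  refine subset_antisymm (fun x hx => ⟨hx.2.1, hx.1.2⟩) fun x hx => ⟨⟨hx.1.le, hx.2⟩, hx.1, ?_⟩
  exact (nef_h_nonneg hdim hB hH hreg hx.2).lt_of_ne' fun h0 =>
    absurd (orth_nonpos hdim hB hH h0) (not_le.2 hx.1)

section Config

variable {r : ℕ} (C : Fin r → X.IdealSheafData) (hC : Function.Injective C)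
  (hCi : ∀ i, IsIntegral (C i).subscheme) (hCd : ∀ i, topologicalKrullDim ((C i).support : Set X) = 1)
  (hCinv : ∀ i, PicF.IsInvertible (ClSub.idealMod (C i)))

local notation "v" => fun i => curveCl k X (C i) (hCinv i)

omit hH hreg in
theorem B_curves (i j : Fin r) : B (curveCl k X (C i) (hCinv i)) (curveCl k X (C j) (hCinv j)) =
    ((FGA.intNum k X 2 ![ClSub.idealMod (C i), ClSub.idealMod (C j)] (Coh.structureModule X) : ℤ) : ℝ) := by
  rw [curveCl, curveCl, map_neg, map_neg, LinearMap.neg_apply, neg_neg]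
  exact hB _ _ _ _

omit hH hreg in
theorem B_sum_sum (a b : Fin r → ℝ) : B (∑ i, a i • v i) (∑ j, b j • v j) =
    ∑ i, ∑ j, a i * b j * B (v i) (v j) := by
  simp only [map_sum, map_smul, LinearMap.sum_apply, LinearMap.smul_apply, smul_eq_mul, Finset.mul_sum]
  rw [Finset.sum_comm]
  exact Finset.sum_congr rfl fun i _ => Finset.sum_congr rfl fun j _ => by ring

variable (hneg : ∀ a : Fin r → ℤ, a ≠ 0 →
      ∑ i, ∑ j, a i * a j * FGA.intNum k X 2 ![(ClSub.idealMod (C i)), (ClSub.idealMod (C j))] (Coh.structureModule X) < 0)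
include hneg

omit hH hreg in
theorem config_nonpos (a : Fin r → ℝ) : B (∑ i, a i • v i) (∑ j, a j • v j) ≤ 0 := by
  rw [B_sum_sum hdim hB]
  let f : (Fin r → ℝ) → ℝ := fun a => ∑ i, ∑ j, a i * a j * B (v i) (v j)
  have hd : DenseRange (Pi.map fun (_ : Fin r) => ((↑) : ℚ → ℝ)) := DenseRange.piMap fun _ => Rat.denseRange_cast
  refine hd.induction_on (p := fun a => f a ≤ 0) a (isClosed_le (by fun_prop) continuous_const) fun q => ?_
  obtain ⟨D, z, hD, hz⟩ := exists_int q
  have hz' : ∀ i, (z i : ℝ) = (D : ℝ) * (q i : ℝ) := fun i => by exact_mod_cast hz i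
  have h1 : (∑ i, ∑ j, z i * z j * FGA.intNum k X 2 ![(ClSub.idealMod (C i)), (ClSub.idealMod (C j))] (Coh.structureModule X)) ≤ 0 := by
    by_cases hz0 : z = 0
    · simp [hz0]
    · exact (hneg z hz0).le
  have h2 : ((D : ℝ) ^ 2) * f (fun i => (q i : ℝ)) ≤ 0 := by
    have e : ((D : ℝ) ^ 2) * f (fun i => (q i : ℝ)) =
        ((∑ i, ∑ j, z i * z j * FGA.intNum k X 2 ![(ClSub.idealMod (C i)), (ClSub.idealMod (C j))] (Coh.structureModule X) : ℤ) : ℝ) := by
      simp only [f, Finset.mul_sum, Int.cast_sum, Int.cast_mul, hz', B_curves hdim hB C hCinv]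
      exact Finset.sum_congr rfl fun i _ => Finset.sum_congr rfl fun j _ => by ring
    rw [e]
    exact_mod_cast h1
  exact nonpos_of_mul_nonpos_right h2 (by positivity)

omit hH hreg in
theorem config_kernel (a : Fin r → ℝ) (ha : ∀ j, B (∑ i, a i • v i) (v j) = 0) : a = 0 := by
  refine real_of_rat (fun i j =>
    ((FGA.intNum k X 2 ![(ClSub.idealMod (C i)), (ClSub.idealMod (C j))] (Coh.structureModule X) : ℤ) : ℚ))
    (fun q hq => ?_) a fun j => ?_
  · obtain ⟨D, z, hD, hz⟩ := exists_int q
    by_contra hq0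
    have hz0 : z ≠ 0 := fun h0 => hq0 (funext fun i => by
      have := hz i
      rw [h0, Pi.zero_apply, Int.cast_zero] at this
      exact (mul_eq_zero.1 this.symm).resolve_left (by positivity))
    have h1 : ((∑ i, ∑ j, z i * z j * FGA.intNum k X 2 ![(ClSub.idealMod (C i)), (ClSub.idealMod (C j))]
        (Coh.structureModule X) : ℤ) : ℚ) = 0 := by
      push_cast
      rw [Finset.sum_comm]
      refine Finset.sum_eq_zero fun j _ => ?_
      have hj : ∀ i, ((z i : ℚ) * (z j : ℚ)) *
          ((FGA.intNum k X 2 ![(ClSub.idealMod (C i)), (ClSub.idealMod (C j))] (Coh.structureModule X) : ℤ) : ℚ) =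
          ((D : ℚ) * (z j : ℚ)) * (q i *
          ((FGA.intNum k X 2 ![(ClSub.idealMod (C i)), (ClSub.idealMod (C j))] (Coh.structureModule X) : ℤ) : ℚ)) :=
        fun i => by rw [hz i]; ring
      rw [Finset.sum_congr rfl fun i _ => hj i, ← Finset.mul_sum, hq j, mul_zero]
    exact absurd (Int.cast_eq_zero.1 h1) (hneg z hz0).ne
  · rw [← ha j]
    simp only [map_sum, map_smul, LinearMap.sum_apply, LinearMap.smul_apply, smul_eq_mul, B_curves hdim hB C hCinv,
      Rat.cast_intCast]

omit hH hreg in
theorem config_definite (a : Fin r → ℝ) (ha : B (∑ i, a i • v i) (∑ j, a j • v j) = 0) : a = 0 := by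
  refine config_kernel hdim hB C hCinv hneg a fun j => ?_
  set u := ∑ i, a i • v i
  have key : ∀ t : ℝ, 2 * t * B u (v j) + t ^ 2 * B (v j) (v j) ≤ 0 := fun t => by
    have h1 := config_nonpos hdim hB C hCinv hneg (a + Pi.single j t)
    have e : ∑ i, (a + Pi.single j t : Fin r → ℝ) i • v i = u + t • v j := by
      simp [u, add_smul, Finset.sum_add_distrib, Pi.single_apply, ite_smul]
    rw [e] at h1
    simp only [map_add, map_smul, LinearMap.add_apply, LinearMap.smul_apply, smul_eq_mul, ha,
      B_symm hdim hB (v j) u] at h1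
    linarith
  by_contra hne
  set b := B u (v j)
  set c := B (v j) (v j)
  have h1 := key (b / (|c| + 1))
  have : 2 * (b / (|c| + 1)) * b + (b / (|c| + 1)) ^ 2 * c = b ^ 2 * (2 * (|c| + 1) + c) / (|c| + 1) ^ 2 := by
    field_simp
  rw [this] at h1
  have : 0 < b ^ 2 * (2 * (|c| + 1) + c) / (|c| + 1) ^ 2 :=
    div_pos (mul_pos (pow_two_pos_of_ne_zero hne) (by linarith [neg_abs_le c, abs_nonneg c])) (by positivity)
  linarith

omit hreg in
include hCinv in
/-- The classes of a negative definite configuration together with `h` are independent. -/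
theorem config_finrank : r + 1 ≤ Module.finrank ℝ (N1R k X) := by
  have hli : LinearIndependent ℝ (Fin.cons (α := fun _ : Fin (r + 1) => N1R k X) h v) := by
    rw [Fintype.linearIndependent_iff]
    intro g hg
    simp only [Fin.sum_univ_succ, Fin.cons_zero, Fin.cons_succ] at hg
    have h0 : g 0 = 0 := by
      have e : g 0 • h = ∑ i, (-g i.succ) • v i := by
        simp only [neg_smul, Finset.sum_neg_distrib]
        exact eq_neg_of_add_eq_zero_left hg
      have h1 := config_nonpos hdim hB C hCinv hneg fun i => -g i.succ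
      rw [← e] at h1
      simp only [map_smul, LinearMap.smul_apply, smul_eq_mul] at h1
      by_contra hne
      nlinarith [mul_pos (mul_self_pos.2 hne) (hh_pos hdim hB hH)]
    rw [h0, zero_smul, zero_add] at hg
    have h2 := config_definite hdim hB C hCinv hneg (fun i => g i.succ) (by rw [hg]; simp)
    exact Fin.cases h0 fun i => congrFun h2 i
  simpa using hli.fintype_card_le_finrank

end Config

end Groth.L03.SurfNum
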