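import Groth.Agent.L03.SurfNum.Cone
import Mathlib.LinearAlgebra.FiniteDimensional.Basic

/-!
# Ampleness of real divisors depends only on the numerical class
-/

set_option autoImplicit false
set_option backward.isDefEq.respectTransparency false
set_option linter.style.haveILetI false
set_option linter.unusedSectionVars false

universe v u

open CategoryTheory CategoryTheory.Limits AlgebraicGeometry TopologicalSpace
open NumR (N1R clR curveCl toN1R toN1)

noncomputable section

namespace Groth.L03.SurfNum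

open Groth.L22.Inter Groth.L22.Nef Groth.L22.Big Groth.L03.Euler

variable {k : Type u} [Field k] {X : Scheme.{u}} [X.Over (Spec (CommRingCat.of k))] [PicGrp.Law X]
  [IsProper (X ↘ Spec (CommRingCat.of k))] [IsIntegral X]
  (hdim : topologicalKrullDim X = 2) {B : N1R k X →ₗ[ℝ] N1R k X →ₗ[ℝ] ℝ} (hB : NumR.IsIntForm₂ k X B)
  (hreg : ∀ x : X, IsRegularLocalRing (X.presheaf.stalk x))

include hdim hB hreg

/-- An ample class plus a numerically trivial one is ample. -/
theorem exists_ample_add {E T : NumR.CDiv X} (hT : NumR.IsNumTrivialRDiv k X B (NumR.CDiv.toR X T))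
    (hE : ∃ (L : X.Modules) (hL : PicF.IsInvertible L), CohB1.IsAmple L ∧
      Additive.ofMul (PicGrp.cls L hL) = NumR.divCl X E) :
    ∃ (L : X.Modules) (hL : PicF.IsInvertible L), CohB1.IsAmple L ∧
      Additive.ofMul (PicGrp.cls L hL) = NumR.divCl X (E + T) := by
  obtain ⟨L, hL, hLa, hLe⟩ := hE
  obtain ⟨P, hP, hPe⟩ := PicGrp.exists_eq_cls (Additive.toMul (NumR.divCl X T))
  have hcl : clR k X P hP = NumR.divClR k X (NumR.CDiv.toR X T) := by
    rw [NumR.divClR_toR, NumR.clR_def, ← NumR.toN1_ofMul_cls, ← hPe, ofMul_toMul]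
  have hnef : IsNef k P := ⟨hP, fun y hy => by
    haveI := isIntegral_pt y
    have hi := inv_pt k hdim hreg hy
    have hs : topologicalKrullDim ((pt y).support : Set X) = 1 := by
      rw [Groth.L18.support_vanishingIdeal]; exact hy.trans Nat.cast_one
    have h1 := hT (Finsupp.single (⟨pt y, inferInstance, hs, hi⟩ : NumR.Curve X) 1)
    have h2 : NumR.divClR k X (NumR.CDiv.toR X (Finsupp.single (⟨pt y, inferInstance, hs, hi⟩ : NumR.Curve X) 1)) =
        curveCl k X (pt y) hi := by
      simp [NumR.CDiv.toR, NumR.divClR]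
    rw [h2, ← hcl, deg_curve hdim hB hP, Rat.cast_eq_zero] at h1
    exact h1.ge⟩
  have hLP := Groth.L18.GenLoc.isInvertible_tensor hL hP
  refine ⟨CohB1.tensorMod L P, hLP, Groth.L22.Nef.isAmple_tensor hLa hnef, ?_⟩
  rw [map_add, ← hLe, ← ofMul_toMul (NumR.divCl X T), hPe, ← ofMul_mul]
  congr 1
  refine Subtype.ext ?_
  rw [PicGrp.cls_val, PicGrp.cls_mul_cls_val]

theorem numTriv_zsmul {T : NumR.CDiv X} (hT : NumR.IsNumTrivialRDiv k X B (NumR.CDiv.toR X T)) (N : ℤ) :
    NumR.IsNumTrivialRDiv k X B (NumR.CDiv.toR X (N • T)) := fun E => by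
  simp only [map_zsmul, LinearMap.smul_apply, hT E, smul_zero]

/-- Adding a real multiple of a numerically trivial integral divisor. -/
theorem isAmpleRDiv_add_smul {D : NumR.CDivR X} (hD : NumR.IsAmpleRDiv X D) {T : NumR.CDiv X}
    (hT : NumR.IsNumTrivialRDiv k X B (NumR.CDiv.toR X T)) (s : ℝ) :
    NumR.IsAmpleRDiv X (D + s • NumR.CDiv.toR X T) := by
  obtain ⟨n, E, t, hn, ht, hE, rfl⟩ := hD
  have hn' : (0 : ℝ) < n := Nat.cast_pos.2 hn
  have hN : ∀ l, ∃ N : ℕ, 0 < N ∧ |s / n| / N < t l := fun l => by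
    obtain ⟨N, hN⟩ := exists_nat_gt (|s / n| / t l)
    refine ⟨N + 1, N.succ_pos, ?_⟩
    rw [div_lt_iff₀ (Nat.cast_pos.2 N.succ_pos), mul_comm, ← div_lt_iff₀ (ht l)]
    exact hN.trans (by push_cast; linarith)
  choose N hN0 hNlt using hN
  let α : Fin n → ℝ := fun l => (t l + s / n / N l) / 2
  let β : Fin n → ℝ := fun l => (t l - s / n / N l) / 2
  have hab : ∀ l, 0 < α l ∧ 0 < β l := fun l => by
    have hN' : (0 : ℝ) < N l := Nat.cast_pos.2 (hN0 l)
    have h' : |s / n / N l| < t l := by rw [abs_div, abs_of_pos hN']; exact hNlt l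
    rw [abs_lt] at h'
    exact ⟨div_pos (by linarith) two_pos, div_pos (by linarith) two_pos⟩
  refine ⟨n + n, Fin.append (fun l => E l + (N l : ℤ) • T) (fun l => E l + (-(N l : ℤ)) • T), Fin.append α β,
    by omega, fun i => ?_, fun i => ?_, ?_⟩
  · refine Fin.addCases (fun l => ?_) (fun l => ?_) i
    · rw [Fin.append_left]; exact (hab l).1
    · rw [Fin.append_right]; exact (hab l).2
  · refine Fin.addCases (fun l => ?_) (fun l => ?_) i
    · rw [Fin.append_left]; exact exists_ample_add hdim hB hreg (numTriv_zsmul hdim hB hreg hT _) (hE l)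
    · rw [Fin.append_right]; exact exists_ample_add hdim hB hreg (numTriv_zsmul hdim hB hreg hT _) (hE l)
  · simp only [Fin.sum_univ_add, Fin.append_left, Fin.append_right, map_add, map_zsmul, smul_add]
    have e : ∀ l, α l • ((N l : ℤ) • NumR.CDiv.toR X T) + β l • ((-(N l : ℤ)) • NumR.CDiv.toR X T) =
        (s / n) • NumR.CDiv.toR X T := fun l => by
      rw [← Int.cast_smul_eq_zsmul ℝ, ← Int.cast_smul_eq_zsmul ℝ, smul_smul, smul_smul, ← add_smul]
      congr 1
      have : (N l : ℝ) ≠ 0 := Nat.cast_ne_zero.2 (hN0 l).ne'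
      simp only [α, β]
      push_cast
      field_simp
      ring
    have e' : ∀ l, α l • NumR.CDiv.toR X (E l) + β l • NumR.CDiv.toR X (E l) = t l • NumR.CDiv.toR X (E l) := fun l => by
      rw [← add_smul]; congr 1; simp only [α, β]; ring
    rw [← Finset.sum_add_distrib]
    calc ∑ l, t l • NumR.CDiv.toR X (E l) + s • NumR.CDiv.toR X T
        = ∑ l, (t l • NumR.CDiv.toR X (E l) + (s / n) • NumR.CDiv.toR X T) := by
          rw [Finset.sum_add_distrib, Finset.sum_const, Finset.card_univ, Fintype.card_fin, ← Nat.cast_smul_eq_nsmul ℝ,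
            smul_smul, mul_div_cancel₀ s hn'.ne']
      _ = _ := Finset.sum_congr rfl fun l _ => by rw [← e l, ← e' l]; abel

/-- A numerically trivial real divisor is a combination of numerically trivial integral ones. -/
theorem exists_decomp_numTriv {T : NumR.CDivR X} (hT : NumR.IsNumTrivialRDiv k X B T) :
    ∃ (d : ℕ) (s : Fin d → ℝ) (U : Fin d → NumR.CDiv X),
      (∀ m, NumR.IsNumTrivialRDiv k X B (NumR.CDiv.toR X (U m))) ∧ T = ∑ m, s m • NumR.CDiv.toR X (U m) := by
  classical
  let V : Submodule ℚ ℝ := Submodule.span ℚ (Set.range fun i : T.support => T i.1)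
  haveI : Module.Finite ℚ V := FiniteDimensional.span_of_finite ℚ (Set.finite_range _)
  let b := Module.finBasis ℚ V
  let c : T.support → V := fun i => ⟨T i.1, Submodule.subset_span ⟨i, rfl⟩⟩
  have hz : ∀ m, ∃ (D : ℕ) (z : T.support → ℤ), 0 < D ∧ ∀ i, (z i : ℚ) = D * b.repr (c i) m :=
    fun m => exists_int fun i => b.repr (c i) m
  choose D z hD hz using hz
  let U : Fin (Module.finrank ℚ V) → NumR.CDiv X := fun m => ∑ i : T.support, Finsupp.single i.1 (z m i)
  let s : Fin (Module.finrank ℚ V) → ℝ := fun m => (b m : ℝ) / D m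
  have hUR : ∀ m, NumR.CDiv.toR X (U m) = ∑ i : T.support, (z m i : ℝ) • Finsupp.single i.1 (1 : ℝ) := fun m => by
    simp [U, NumR.CDiv.toR]
  have hTeq : T = ∑ m, s m • NumR.CDiv.toR X (U m) := by
    conv_lhs => rw [← Finsupp.sum_single T]
    simp only [hUR, Finset.smul_sum, smul_smul]
    rw [Finset.sum_comm, Finsupp.sum, ← Finset.sum_attach]
    refine Finset.sum_congr rfl fun i _ => ?_
    rw [← Finset.sum_smul, Finsupp.smul_single, smul_eq_mul, mul_one]
    congr 1
    have h1 := congrArg (fun w : V => (w : ℝ)) (b.sum_repr (c i)).symm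
    simp only [c, Submodule.coe_sum, Submodule.coe_smul, Rat.smul_def] at h1
    rw [h1]
    refine Finset.sum_congr rfl fun m _ => ?_
    have hz' : (z m i : ℝ) = (D m : ℝ) * (b.repr (c i) m : ℝ) := by exact_mod_cast hz m i
    have hD' : (D m : ℝ) ≠ 0 := Nat.cast_ne_zero.2 (hD m).ne'
    rw [hz']
    simp only [s]
    field_simp
    exact mul_comm _ _
  refine ⟨_, s, U, fun m E => ?_, hTeq⟩
  have hint : ∀ m, ∃ q : ℤ, B (NumR.divClR k X (NumR.CDiv.toR X (U m))) (NumR.divClR k X (NumR.CDiv.toR X E)) = q := by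
    intro m
    rw [NumR.divClR_toR, NumR.divClR_toR]
    obtain ⟨L, hL, h1⟩ := NumR.exists_eq_cl (toN1 k X (NumR.divCl X (U m)))
    obtain ⟨M, hM, h2⟩ := NumR.exists_eq_cl (toN1 k X (NumR.divCl X E))
    rw [h1, h2]
    exact ⟨_, hB L M hL hM⟩
  choose q hq using hint
  have h0 := hT E
  rw [hTeq, map_sum, map_sum, LinearMap.sum_apply] at h0
  simp only [map_smul, LinearMap.smul_apply, smul_eq_mul, hq] at h0
  have hli := Fintype.linearIndependent_iff.1 b.linearIndependent (fun m => (q m : ℚ) / D m) (by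
    apply Subtype.ext
    rw [Submodule.coe_sum, ZeroMemClass.coe_zero]
    refine Eq.trans (Finset.sum_congr rfl fun m _ => ?_) h0
    rw [Submodule.coe_smul, Rat.smul_def]
    simp only [s]
    push_cast
    ring)
  have := (div_eq_zero_iff.1 (hli m)).resolve_right (Nat.cast_ne_zero.2 (hD m).ne')
  rw [hq m]
  exact_mod_cast this

theorem isAmpleRDiv_of_numTriv {D D' : NumR.CDivR X} (hD : NumR.IsAmpleRDiv X D)
    (h : NumR.IsNumTrivialRDiv k X B (D' - D)) : NumR.IsAmpleRDiv X D' := by
  obtain ⟨d, s, U, hU, hsum⟩ := exists_decomp_numTriv hdim hB hreg h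
  have key : ∀ S : Finset (Fin d), NumR.IsAmpleRDiv X (D + ∑ m ∈ S, s m • NumR.CDiv.toR X (U m)) := by
    intro S
    induction S using Finset.induction_on with
    | empty => simpa using hD
    | insert a S ha ih =>
      rw [Finset.sum_insert ha, add_comm (s a • _), ← add_assoc]
      exact isAmpleRDiv_add_smul hdim hB hreg ih (hU a) (s a)
  have := key Finset.univ
  rwa [← hsum, add_sub_cancel] at this

end Groth.L03.SurfNum
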